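import Groth.Agent.GrInj18.Ext
import Groth.Agent.LC15.Basic

/-!
# *injective modules are acyclic for local cohomology
-/

universe u

open DirectSum GrLC

namespace Groth.Agent.GrInj18

variable {ι : Type} [DecidableEq ι] [AddCommGroup ι]
variable {R : Type u} [CommRing R] [IsNoetherianRing R] {σ : Type u} [SetLike σ R]
  [AddSubgroupClass σ R] (𝒜 : ι → σ) [GradedRing 𝒜]
variable {I : Type u} [AddCommGroup I] [Module R I] (ℐ : ι → AddSubgroup I) [Decomposition ℐ]
  [SetLike.GradedSMul 𝒜 ℐ]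

omit [IsNoetherianRing R] in
theorem isHomogeneous_pow (a : HomogeneousIdeal 𝒜) (n : ℕ) :
    Submodule.IsHomogeneous (a.toIdeal ^ n : Submodule R R) 𝒜 := by
  induction n with
  | zero =>
    exact isHomogeneous_of_cmp 𝒜 fun d x _ => by
      rw [pow_zero, Ideal.one_eq_top]; exact Submodule.mem_top
  | succ n ih =>
    have h : Ideal.IsHomogeneous 𝒜 (a.toIdeal ^ n * a.toIdeal) :=
      Ideal.IsHomogeneous.mul (fun i _ hx => ih i hx) a.isHomogeneous
    rw [pow_succ]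
    exact fun i _ hx => h i hx

theorem subsingleton_ext_quotPow (hI : IsStarInj 𝒜 ℐ) (a : HomogeneousIdeal 𝒜) (n i : ℕ) :
    Subsingleton (CategoryTheory.Abelian.Ext.{u} (LC15.quotPow a.toIdeal n)
      (ModuleCat.of R I) (i + 1)) := by
  have : Module.Finite R (gquot 𝒜 𝒜 (isHomogeneous_pow 𝒜 a n)).carrier :=
    inferInstanceAs (Module.Finite R (R ⧸ a.toIdeal ^ n))
  exact subsingleton_ext_of_isStarInj 𝒜 ℐ hI i (gquot 𝒜 𝒜 (isHomogeneous_pow 𝒜 a n))

theorem subsingleton_H_of_isStarInj (hI : IsStarInj 𝒜 ℐ) (a : HomogeneousIdeal 𝒜) (i : ℕ) :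
    Subsingleton (LocCoh.H a.toIdeal (i + 1) I) := by
  refine subsingleton_of_forall_eq 0 fun y => ?_
  obtain ⟨n, x, rfl⟩ := LC15.toH_surj a.toIdeal (i + 1) I y
  rw [(subsingleton_ext_quotPow 𝒜 ℐ hI a n i).elim x 0, map_zero]

end Groth.Agent.GrInj18
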