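import Groth.Prelude.Def_GrLC
import Mathlib.RingTheory.GradedAlgebra.Homogeneous.Submodule

/-!
# Modules graded by an abelian group over a graded ring

Components, homogeneous submodules and maps, sub/quotient/shifted graded modules as `GrLC.GMod`s,
and the degree `d` part of a linear map.
-/

universe u

open DirectSum GrLC

namespace Groth.Agent.GrInj18

variable {ι : Type} [DecidableEq ι]

section Components

variable {M : Type u} [AddCommGroup M] {τ : Type u} [SetLike τ M] [AddSubgroupClass τ M]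
  (ℳ : ι → τ) [Decomposition ℳ]

/-- The degree `d` component, as an additive map. -/
noncomputable def cmp (d : ι) : M →+ M where
  toFun m := (decompose ℳ m d : M)
  map_zero' := by simp
  map_add' x y := by simp

theorem cmp_apply (d : ι) (m : M) : cmp ℳ d m = (decompose ℳ m d : M) := rfl

theorem cmp_mem (d : ι) (m : M) : cmp ℳ d m ∈ ℳ d := (decompose ℳ m d).2

theorem cmp_of_mem {d : ι} {m : M} (h : m ∈ ℳ d) : cmp ℳ d m = m :=
  decompose_of_mem_same ℳ h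

theorem cmp_of_ne {d e : ι} {m : M} (h : m ∈ ℳ d) (hne : d ≠ e) : cmp ℳ e m = 0 :=
  decompose_of_mem_ne ℳ h hne

theorem cmp_ite {d e : ι} {m : M} (h : m ∈ ℳ d) : cmp ℳ e m = if d = e then m else 0 := by
  split_ifs with hde
  · subst hde; exact cmp_of_mem ℳ h
  · exact cmp_of_ne ℳ h hde

theorem exists_sum_cmp (m : M) : ∃ t : Finset ι, ∑ d ∈ t, cmp ℳ d m = m := by
  classical
  exact ⟨_, sum_support_decompose ℳ m⟩

theorem cmp_support (m : M) : ∃ t : Finset ι, (∑ d ∈ t, cmp ℳ d m = m) ∧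
    ∀ d ∉ t, cmp ℳ d m = 0 := by
  classical
  refine ⟨_, sum_support_decompose ℳ m, fun d hd => ?_⟩
  rw [DFinsupp.mem_support_iff, not_not] at hd
  simp [cmp_apply, hd]

theorem eq_of_cmp {m m' : M} (h : ∀ d, cmp ℳ d m = cmp ℳ d m') : m = m' := by
  apply (decompose ℳ).injective
  ext d
  exact h d

theorem eq_zero_of_cmp {m : M} (h : ∀ d, cmp ℳ d m = 0) : m = 0 :=
  eq_of_cmp ℳ (by simpa using h)

theorem cmp_sum_mem (t : Finset ι) (m : ι → M) (hm : ∀ d ∈ t, m d ∈ ℳ d) {e : ι} :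
    cmp ℳ e (∑ d ∈ t, m d) = if e ∈ t then m e else 0 := by
  rw [map_sum, Finset.sum_congr rfl fun d hd => cmp_ite ℳ (hm d hd), Finset.sum_ite_eq']

theorem piece_induction {p : M → Prop} (m : M) (h0 : p 0) (hadd : ∀ x y, p x → p y → p (x + y))
    (hp : ∀ d, ∀ x ∈ ℳ d, p x) : p m := by
  obtain ⟨t, ht⟩ := exists_sum_cmp ℳ m
  rw [← ht]
  exact Finset.sum_induction _ p hadd h0 (fun d _ => hp d _ (cmp_mem ℳ d m))

end Components

/-- A family of subgroups with projections is an internal direct sum. -/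
theorem isInternal_of_proj {N : Type u} [AddCommGroup N] (𝒩 : ι → AddSubgroup N) (c : ι → N →+ N)
    (hmem : ∀ d x, c d x ∈ 𝒩 d) (hsum : ∀ x, ∃ t : Finset ι, ∑ d ∈ t, c d x = x)
    (hsame : ∀ d, ∀ x ∈ 𝒩 d, c d x = x) (hne : ∀ d e, ∀ x ∈ 𝒩 d, d ≠ e → c e x = 0) :
    IsInternal 𝒩 := by
  classical
  have key : ∀ (f : ⨁ i, 𝒩 i) (e : ι), c e (DirectSum.coeAddMonoidHom 𝒩 f) = (f e : N) := by
    intro f e
    induction f using DirectSum.induction_on with
    | zero => simp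
    | of i x =>
      rw [DirectSum.coeAddMonoidHom_of]
      rcases eq_or_ne i e with rfl | h
      · rw [DirectSum.of_eq_same, hsame _ _ x.2]
      · rw [hne _ _ _ x.2 h, DirectSum.of_eq_of_ne _ _ _ h.symm]; rfl
    | add f g hf hg => simp [hf, hg]
  refine ⟨fun f g hfg => ?_, fun x => ?_⟩
  · ext e
    rw [← key f e, ← key g e, hfg]
  · obtain ⟨t, ht⟩ := hsum x
    exact ⟨∑ d ∈ t, DirectSum.of (fun i => 𝒩 i) d ⟨c d x, hmem d x⟩, by simpa [map_sum] using ht⟩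

theorem cmp_eq_proj {N : Type u} [AddCommGroup N] (𝒩 : ι → AddSubgroup N) [Decomposition 𝒩]
    (c : ι → N →+ N) (hsame : ∀ d, ∀ x ∈ 𝒩 d, c d x = x)
    (hne : ∀ d e, ∀ x ∈ 𝒩 d, d ≠ e → c e x = 0) (d : ι) (x : N) : cmp 𝒩 d x = c d x := by
  induction x using piece_induction 𝒩 with
  | h0 => simp
  | hadd x y hx hy => simp [hx, hy]
  | hp j x hx =>
    rcases eq_or_ne j d with rfl | h
    · rw [cmp_of_mem 𝒩 hx, hsame _ _ hx]
    · rw [cmp_of_ne 𝒩 hx h, hne _ _ _ hx h]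

variable [AddCommGroup ι]

section Module

variable {R : Type u} [CommRing R] {σ : Type u} [SetLike σ R] [AddSubgroupClass σ R]
  (𝒜 : ι → σ) [GradedRing 𝒜]
  {M : Type u} [AddCommGroup M] [Module R M] {τ : Type u} [SetLike τ M] [AddSubgroupClass τ M]
  (ℳ : ι → τ) [Decomposition ℳ] [SetLike.GradedSMul 𝒜 ℳ]

omit [DecidableEq ι] [AddSubgroupClass σ R] [GradedRing 𝒜] [Decomposition ℳ]
  [AddSubgroupClass τ M] in
theorem smul_mem_add {i j : ι} {c : R} {m : M} (hc : c ∈ 𝒜 i) (hm : m ∈ ℳ j) :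
    c • m ∈ ℳ (i + j) := by
  simpa [vadd_eq_add] using SetLike.GradedSMul.smul_mem (A := 𝒜) (B := ℳ) hc hm

theorem cmp_smul_homog_right (d : ι) {j : ι} {m : M} (hm : m ∈ ℳ j) (c : R) :
    cmp ℳ d (c • m) = cmp 𝒜 (d - j) c • m := by
  induction c using piece_induction 𝒜 with
  | h0 => simp
  | hadd x y hx hy => simp [add_smul, hx, hy]
  | hp i x hx =>
    rw [cmp_ite ℳ (smul_mem_add 𝒜 ℳ hx hm), cmp_ite 𝒜 hx, ite_smul, zero_smul]
    simp only [eq_sub_iff_add_eq]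

omit [AddSubgroupClass σ R] [GradedRing 𝒜] in
theorem cmp_smul_homog_left (d : ι) {i : ι} {c : R} (hc : c ∈ 𝒜 i) (m : M) :
    cmp ℳ d (c • m) = c • cmp ℳ (d - i) m := by
  induction m using piece_induction ℳ with
  | h0 => simp
  | hadd x y hx hy => simp [smul_add, hx, hy]
  | hp j x hx =>
    rw [cmp_ite ℳ (smul_mem_add 𝒜 ℳ hc hx), cmp_ite ℳ hx, smul_ite, smul_zero]
    simp only [eq_sub_iff_add_eq, add_comm j i]

omit [GradedRing 𝒜] [AddSubgroupClass σ R] in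
include 𝒜 in
theorem cmp_smul_add (d : ι) {i : ι} {c : R} (hc : c ∈ 𝒜 i) (m : M) :
    cmp ℳ (d + i) (c • m) = c • cmp ℳ d m := by
  rw [cmp_smul_homog_left 𝒜 ℳ _ hc, add_sub_cancel_right]

end Module

section GrHom

variable {R : Type u} [CommRing R]
  {M N : Type u} [AddCommGroup M] [Module R M] [AddCommGroup N] [Module R N]
  {τ τ' : Type u} [SetLike τ M] [AddSubgroupClass τ M] [SetLike τ' N] [AddSubgroupClass τ' N]
  (ℳ : ι → τ) [Decomposition ℳ] (𝒩 : ι → τ') [Decomposition 𝒩]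

theorem map_cmp_deg {f : M →ₗ[R] N} {g : ι} (hf : IsGrHomDeg ℳ 𝒩 f g) (d : ι) (m : M) :
    f (cmp ℳ d m) = cmp 𝒩 (d + g) (f m) := by
  induction m using piece_induction ℳ with
  | h0 => simp
  | hadd x y hx hy => simp [hx, hy]
  | hp j x hx =>
    rw [cmp_ite ℳ hx, cmp_ite 𝒩 (hf _ _ hx), apply_ite f, map_zero]
    simp only [add_left_inj]

omit [AddSubgroupClass τ M] [AddSubgroupClass τ' N] [Decomposition ℳ] [Decomposition 𝒩]
  [DecidableEq ι] in
theorem isGrHomDeg_zero_iff {f : M →ₗ[R] N} : IsGrHomDeg ℳ 𝒩 f 0 ↔ IsGrHom ℳ 𝒩 f := by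
  simp [IsGrHomDeg, IsGrHom]

theorem map_cmp {f : M →ₗ[R] N} (hf : IsGrHom ℳ 𝒩 f) (d : ι) (m : M) :
    f (cmp ℳ d m) = cmp 𝒩 d (f m) := by
  rw [map_cmp_deg ℳ 𝒩 ((isGrHomDeg_zero_iff ℳ 𝒩).2 hf), add_zero]

theorem exists_homog_preimage {f : M →ₗ[R] N} (hf : IsGrHom ℳ 𝒩 f) {y : N} {d : ι}
    (hy : y ∈ LinearMap.range f) (hd : y ∈ 𝒩 d) : ∃ x ∈ ℳ d, f x = y := by
  obtain ⟨x, rfl⟩ := hy
  exact ⟨cmp ℳ d x, cmp_mem ℳ d x, by rw [map_cmp ℳ 𝒩 hf, cmp_of_mem 𝒩 hd]⟩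

theorem isGrHom_symm {f : M ≃ₗ[R] N} (hf : IsGrHom ℳ 𝒩 f.toLinearMap) :
    IsGrHom 𝒩 ℳ f.symm.toLinearMap := fun g m hm => by
  obtain ⟨x, hx, hxm⟩ := exists_homog_preimage ℳ 𝒩 hf (y := m) ⟨f.symm m, by simp⟩ hm
  simpa [← hxm] using hx

theorem eq_of_eqOn_pieces {f g : M →ₗ[R] N} (h : ∀ d, ∀ x ∈ ℳ d, f x = g x) : f = g :=
  LinearMap.ext fun m => by
    induction m using piece_induction ℳ with
    | h0 => simp
    | hadd x y hx hy => simp [hx, hy]
    | hp d x hx => exact h d x hx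

end GrHom

section Homogeneous

variable {R : Type u} [CommRing R]
  {M N : Type u} [AddCommGroup M] [Module R M] [AddCommGroup N] [Module R N]
  {τ τ' : Type u} [SetLike τ M] [AddSubgroupClass τ M] [SetLike τ' N] [AddSubgroupClass τ' N]
  (ℳ : ι → τ) [Decomposition ℳ] (𝒩 : ι → τ') [Decomposition 𝒩]

omit [AddCommGroup ι] in
theorem isHomogeneous_of_cmp {P : Submodule R M} (h : ∀ d, ∀ x ∈ P, cmp ℳ d x ∈ P) :
    P.IsHomogeneous ℳ := fun d x hx => h d x hx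

omit [AddCommGroup ι] in
theorem cmp_mem_of_isHomogeneous {P : Submodule R M} (h : P.IsHomogeneous ℳ) (d : ι) {x : M}
    (hx : x ∈ P) : cmp ℳ d x ∈ P := h d hx

omit [AddCommGroup ι] in
theorem isHomogeneous_bot : (⊥ : Submodule R M).IsHomogeneous ℳ :=
  isHomogeneous_of_cmp ℳ fun d x hx => by simp [(Submodule.mem_bot R).1 hx]

omit [AddCommGroup ι] in
theorem isHomogeneous_top : (⊤ : Submodule R M).IsHomogeneous ℳ :=
  isHomogeneous_of_cmp ℳ fun _ _ _ => trivial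

omit [AddCommGroup ι] in
theorem isHomogeneous_inf {P Q : Submodule R M} (hP : P.IsHomogeneous ℳ)
    (hQ : Q.IsHomogeneous ℳ) : (P ⊓ Q).IsHomogeneous ℳ :=
  isHomogeneous_of_cmp ℳ fun d _ hx => ⟨hP d hx.1, hQ d hx.2⟩

omit [AddCommGroup ι] in
theorem isHomogeneous_sup {P Q : Submodule R M} (hP : P.IsHomogeneous ℳ)
    (hQ : Q.IsHomogeneous ℳ) : (P ⊔ Q).IsHomogeneous ℳ :=
  isHomogeneous_of_cmp ℳ fun d x hx => by
    obtain ⟨p, hp, q, hq, rfl⟩ := Submodule.mem_sup.1 hx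
    rw [map_add]
    exact Submodule.add_mem_sup (hP d hp) (hQ d hq)

omit [AddCommGroup ι] in
theorem isHomogeneous_sSup {S : Set (Submodule R M)} (h : ∀ P ∈ S, P.IsHomogeneous ℳ) :
    (sSup S).IsHomogeneous ℳ :=
  isHomogeneous_of_cmp ℳ fun d x hx => by
    rw [sSup_eq_iSup'] at hx ⊢
    induction hx using Submodule.iSup_induction' with
    | mem P y hy => exact Submodule.mem_iSup_of_mem P (h P P.2 d hy)
    | zero => simp
    | add y z _ _ hy hz => rw [map_add]; exact add_mem hy hz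

theorem isHomogeneous_ker {f : M →ₗ[R] N} (hf : IsGrHom ℳ 𝒩 f) :
    (LinearMap.ker f).IsHomogeneous ℳ :=
  isHomogeneous_of_cmp ℳ fun d x hx => by
    rw [LinearMap.mem_ker] at hx ⊢
    rw [map_cmp ℳ 𝒩 hf, hx, map_zero]

theorem isHomogeneous_map {f : M →ₗ[R] N} {g : ι} (hf : IsGrHomDeg ℳ 𝒩 f g) {P : Submodule R M}
    (hP : P.IsHomogeneous ℳ) : (P.map f).IsHomogeneous 𝒩 :=
  isHomogeneous_of_cmp 𝒩 fun d x hx => by
    obtain ⟨p, hp, rfl⟩ := Submodule.mem_map.1 hx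
    refine Submodule.mem_map.2 ⟨cmp ℳ (d - g) p, hP _ hp, ?_⟩
    rw [map_cmp_deg ℳ 𝒩 hf, sub_add_cancel]

theorem isHomogeneous_range {f : M →ₗ[R] N} (hf : IsGrHom ℳ 𝒩 f) :
    (LinearMap.range f).IsHomogeneous 𝒩 := by
  rw [LinearMap.range_eq_map]
  exact isHomogeneous_map ℳ 𝒩 ((isGrHomDeg_zero_iff ℳ 𝒩).2 hf) (isHomogeneous_top ℳ)

theorem isHomogeneous_comap {f : M →ₗ[R] N} (hf : IsGrHom ℳ 𝒩 f) {Q : Submodule R N}
    (hQ : Q.IsHomogeneous 𝒩) : (Q.comap f).IsHomogeneous ℳ :=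
  isHomogeneous_of_cmp ℳ fun d x hx => by
    rw [Submodule.mem_comap] at hx ⊢
    rw [map_cmp ℳ 𝒩 hf]
    exact hQ d hx

variable {σ : Type u} [SetLike σ R] [AddSubgroupClass σ R] (𝒜 : ι → σ) [GradedRing 𝒜]
  [SetLike.GradedSMul 𝒜 ℳ]

include 𝒜 in
/-- A submodule spanned by homogeneous elements is homogeneous. -/
theorem isHomogeneous_span {s : Set M} (hs : ∀ x ∈ s, ∃ j, x ∈ ℳ j) :
    (Submodule.span R s).IsHomogeneous ℳ := by
  refine isHomogeneous_of_cmp ℳ fun d m hm => ?_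
  induction hm using Submodule.span_induction generalizing d with
  | mem x hx =>
    obtain ⟨j, hj⟩ := hs x hx
    rw [cmp_ite ℳ hj]
    split_ifs
    · exact Submodule.subset_span hx
    · exact zero_mem _
  | zero => simp
  | add x y _ _ hx hy => rw [map_add]; exact add_mem (hx d) (hy d)
  | smul c x _ hx =>
    induction c using piece_induction 𝒜 with
    | h0 => simp
    | hadd a b ha hb => rw [add_smul, map_add]; exact add_mem ha hb
    | hp i a ha =>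
      rw [cmp_smul_homog_left 𝒜 ℳ d ha]
      exact Submodule.smul_mem _ _ (hx _)

include 𝒜 in
theorem isHomogeneous_span_singleton {j : ι} {x : M} (hx : x ∈ ℳ j) :
    (R ∙ x).IsHomogeneous ℳ :=
  isHomogeneous_span ℳ 𝒜 fun y hy => ⟨j, hy ▸ hx⟩

include 𝒜 in
theorem isHomogeneous_annihilator {P : Submodule R M} (hP : P.IsHomogeneous ℳ) :
    Submodule.IsHomogeneous (P.annihilator : Submodule R R) 𝒜 := by
  refine isHomogeneous_of_cmp 𝒜 fun d r hr => ?_
  rw [Submodule.mem_annihilator] at hr ⊢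
  intro m hm
  obtain ⟨t, ht⟩ := exists_sum_cmp ℳ m
  rw [← ht, Finset.smul_sum]
  refine Finset.sum_eq_zero fun j _ => ?_
  have := congrArg (cmp ℳ (d + j)) (hr _ (cmp_mem_of_isHomogeneous ℳ hP j hm))
  rwa [cmp_smul_homog_right 𝒜 ℳ _ (cmp_mem ℳ j m), add_sub_cancel_right, map_zero] at this

end Homogeneous

section GMods

variable {R : Type u} [CommRing R] {σ : Type u} [SetLike σ R] [AddSubgroupClass σ R]
  (𝒜 : ι → σ) [GradedRing 𝒜]
  {M : Type u} [AddCommGroup M] [Module R M] {τ : Type u} [SetLike τ M] [AddSubgroupClass τ M]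
  (ℳ : ι → τ) [Decomposition ℳ] [SetLike.GradedSMul 𝒜 ℳ]

/-- A graded module from an internal direct sum. -/
noncomputable abbrev gmk (N : Type u) [AddCommGroup N] [Module R N] (𝒩 : ι → AddSubgroup N)
    (h : IsInternal 𝒩) (hs : ∀ i j, ∀ a : R, a ∈ 𝒜 i → ∀ x ∈ 𝒩 j, a • x ∈ 𝒩 (i + j)) :
    GMod.{u} 𝒜 :=
  { carrier := N, gr := 𝒩, dec := h.chooseDecomposition
    gsmul := ⟨fun i j a x ha hb => hs i j a ha x hb⟩ }

/-- The family `ℳ` as a family of additive subgroups. -/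
abbrev asSubgroups : ι → AddSubgroup M := fun i => AddSubgroup.ofClass (ℳ i)

theorem asSubgroups_isInternal : IsInternal (asSubgroups ℳ) :=
  isInternal_of_proj _ (cmp ℳ) (cmp_mem ℳ) (exists_sum_cmp ℳ) (fun _ _ hx => cmp_of_mem ℳ hx)
    (fun _ _ _ hx h => cmp_of_ne ℳ hx h)

/-- Bundle a graded module with pieces of any type. -/
noncomputable abbrev gof : GMod.{u} 𝒜 :=
  gmk 𝒜 M (asSubgroups ℳ) (asSubgroups_isInternal ℳ)
    fun _ _ _ ha _ hx => smul_mem_add 𝒜 ℳ ha hx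

/-- The pieces of the shift by `g`: `(ℳ(-g))_j = ℳ_{j - g}`. -/
abbrev shiftGr (g : ι) : ι → AddSubgroup M := fun j => AddSubgroup.ofClass (ℳ (j - g))

theorem shiftGr_isInternal (g : ι) : IsInternal (shiftGr ℳ g) := by
  refine isInternal_of_proj _ (fun j => cmp ℳ (j - g)) (fun j => cmp_mem ℳ _) (fun x => ?_)
    (fun _ _ hx => cmp_of_mem ℳ hx) (fun _ _ _ hx h => cmp_of_ne ℳ hx ?_)
  · obtain ⟨t, ht⟩ := exists_sum_cmp ℳ x
    exact ⟨t.map ⟨(· + g), add_left_injective g⟩, by simpa using ht⟩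
  · simpa using h

/-- The shifted graded module `M(-g)`. -/
noncomputable abbrev gshift (g : ι) : GMod.{u} 𝒜 :=
  gmk 𝒜 M (shiftGr ℳ g) (shiftGr_isInternal ℳ g) fun i j a ha x hx => by
    have h := smul_mem_add 𝒜 ℳ (m := x) ha hx
    rw [← add_sub_assoc] at h
    exact h

/-- The pieces of a submodule. -/
abbrev subGr (P : Submodule R M) : ι → AddSubgroup P :=
  fun i => (AddSubgroup.ofClass (ℳ i)).comap P.subtype.toAddMonoidHom

theorem subGr_isInternal {P : Submodule R M} (hP : P.IsHomogeneous ℳ) :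
    IsInternal (subGr ℳ P) := by
  let c : ι → P →+ P := fun d =>
    ((cmp ℳ d).comp P.subtype.toAddMonoidHom).codRestrict P fun x => hP d x.2
  refine isInternal_of_proj _ c (fun d x => cmp_mem ℳ d _) (fun x => ?_)
    (fun d x hx => Subtype.ext (cmp_of_mem ℳ hx)) (fun d e x hx h => Subtype.ext (cmp_of_ne ℳ hx h))
  obtain ⟨t, ht⟩ := exists_sum_cmp ℳ (x : M)
  exact ⟨t, Subtype.ext (by rw [AddSubmonoidClass.coe_finsetSum]; exact ht)⟩

/-- A homogeneous submodule as a graded module. -/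
noncomputable abbrev gsub {P : Submodule R M} (hP : P.IsHomogeneous ℳ) : GMod.{u} 𝒜 :=
  gmk 𝒜 P (subGr ℳ P) (subGr_isInternal ℳ hP) fun _ _ _ ha x hx =>
    smul_mem_add 𝒜 ℳ (m := (x : M)) ha hx

theorem isGrHom_subtype (P : Submodule R M) : IsGrHom (subGr ℳ P) ℳ P.subtype :=
  fun _ _ hx => hx

/-- The pieces of a quotient module. -/
abbrev quotPieces (P : Submodule R M) : ι → AddSubgroup (M ⧸ P) :=
  fun i => (AddSubgroup.ofClass (ℳ i)).map P.mkQ.toAddMonoidHom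

theorem quotPieces_isInternal {P : Submodule R M} (hP : P.IsHomogeneous ℳ) :
    IsInternal (quotPieces ℳ P) := by
  let c : ι → (M ⧸ P) →+ (M ⧸ P) := fun d =>
    QuotientAddGroup.lift P.toAddSubgroup (P.mkQ.toAddMonoidHom.comp (cmp ℳ d))
      fun x hx => (Submodule.Quotient.mk_eq_zero P).2 (hP d hx)
  refine isInternal_of_proj _ c (fun d x => ?_) (fun x => ?_) (fun d x hx => ?_)
    (fun d e x hx h => ?_)
  · induction x using Submodule.Quotient.induction_on with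
    | H m => exact ⟨cmp ℳ d m, cmp_mem ℳ d m, rfl⟩
  · induction x using Submodule.Quotient.induction_on with
    | H m =>
      obtain ⟨t, ht⟩ := exists_sum_cmp ℳ m
      refine ⟨t, ?_⟩
      change ∑ d ∈ t, P.mkQ (cmp ℳ d m) = P.mkQ m
      rw [← map_sum, ht]
  · obtain ⟨m, hm, rfl⟩ := hx
    exact congrArg P.mkQ (cmp_of_mem ℳ hm)
  · obtain ⟨m, hm, rfl⟩ := hx
    exact (congrArg P.mkQ (cmp_of_ne ℳ hm h)).trans (map_zero _)

/-- The quotient by a homogeneous submodule as a graded module. -/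
noncomputable abbrev gquot {P : Submodule R M} (hP : P.IsHomogeneous ℳ) : GMod.{u} 𝒜 :=
  gmk 𝒜 (M ⧸ P) (quotPieces ℳ P) (quotPieces_isInternal ℳ hP) fun i j a ha x hx => by
    obtain ⟨m, hm, rfl⟩ := hx
    exact ⟨a • m, smul_mem_add 𝒜 ℳ ha hm, map_smul P.mkQ a m⟩

theorem isGrHom_mkQ (P : Submodule R M) : IsGrHom ℳ (quotPieces ℳ P) P.mkQ :=
  fun _ m hm => ⟨m, hm, rfl⟩

noncomputable instance : Decomposition (asSubgroups ℳ) :=
  (asSubgroups_isInternal ℳ).chooseDecomposition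

noncomputable instance (g : ι) : Decomposition (shiftGr ℳ g) :=
  (shiftGr_isInternal ℳ g).chooseDecomposition

instance : SetLike.GradedSMul 𝒜 (asSubgroups ℳ) :=
  ⟨fun _ _ _ _ ha hx => smul_mem_add 𝒜 ℳ ha hx⟩

instance (g : ι) : SetLike.GradedSMul 𝒜 (shiftGr ℳ g) :=
  ⟨fun i j a x ha hx => by
    have h := smul_mem_add 𝒜 ℳ (m := x) ha hx
    rw [← add_sub_assoc] at h
    exact h⟩

instance (P : Submodule R M) : SetLike.GradedSMul 𝒜 (subGr ℳ P) :=
  ⟨fun _ _ _ x ha hx => smul_mem_add 𝒜 ℳ (m := (x : M)) ha hx⟩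

instance (P : Submodule R M) : SetLike.GradedSMul 𝒜 (quotPieces ℳ P) :=
  ⟨fun _ _ a x ha hx => by
    obtain ⟨m, hm, rfl⟩ := hx
    exact ⟨a • m, smul_mem_add 𝒜 ℳ ha hm, map_smul P.mkQ a m⟩⟩

end GMods

section DegPart

variable {R : Type u} [CommRing R] {σ : Type u} [SetLike σ R] [AddSubgroupClass σ R]
  (𝒜 : ι → σ) [GradedRing 𝒜]
  {M : Type u} [AddCommGroup M] [Module R M] {τ : Type u} [SetLike τ M] [AddSubgroupClass τ M]
  (ℳ : ι → τ) [Decomposition ℳ] [SetLike.GradedSMul 𝒜 ℳ]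
  {N : Type u} [AddCommGroup N] [Module R N] {τ' : Type u} [SetLike τ' N] [AddSubgroupClass τ' N]
  (𝒩 : ι → τ') [Decomposition 𝒩] [SetLike.GradedSMul 𝒜 𝒩]

/-- The degree `g` part of a linear map, as an additive map. -/
noncomputable def degPartAux (g : ι) (h : M →ₗ[R] N) : M →+ N :=
  (DirectSum.toAddMonoid fun j => (cmp 𝒩 (j + g)).comp
      (h.toAddMonoidHom.comp (AddSubgroupClass.subtype (ℳ j)))).comp
    (decomposeAddEquiv ℳ).toAddMonoidHom

theorem degPartAux_of_mem (g : ι) (h : M →ₗ[R] N) {j : ι} {m : M} (hm : m ∈ ℳ j) :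
    degPartAux ℳ 𝒩 g h m = cmp 𝒩 (j + g) (h m) := by
  change DirectSum.toAddMonoid _ (decompose ℳ m) = _
  rw [decompose_of_mem ℳ hm, DirectSum.toAddMonoid_of]
  rfl

/-- The degree `g` part of a linear map between graded modules. -/
noncomputable def degPart (g : ι) (h : M →ₗ[R] N) : M →ₗ[R] N where
  toFun := degPartAux ℳ 𝒩 g h
  map_add' := map_add _
  map_smul' c m := by
    induction c using piece_induction 𝒜 with
    | h0 => simp
    | hadd a b ha hb => simp [add_smul, ha, hb]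
    | hp i a ha =>
      simp only [RingHom.id_apply]
      induction m using piece_induction ℳ with
      | h0 => simp
      | hadd x y hx hy => simp [smul_add, hx, hy]
      | hp j x hx =>
        rw [degPartAux_of_mem ℳ 𝒩 g h (smul_mem_add 𝒜 ℳ ha hx), degPartAux_of_mem ℳ 𝒩 g h hx,
          map_smul, ← cmp_smul_add 𝒜 𝒩 (j + g) ha, show i + j + g = j + g + i by abel]

theorem degPart_of_mem (g : ι) (h : M →ₗ[R] N) {j : ι} {m : M} (hm : m ∈ ℳ j) :
    degPart 𝒜 ℳ 𝒩 g h m = cmp 𝒩 (j + g) (h m) :=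
  degPartAux_of_mem ℳ 𝒩 g h hm

theorem isGrHomDeg_degPart (g : ι) (h : M →ₗ[R] N) :
    IsGrHomDeg ℳ 𝒩 (degPart 𝒜 ℳ 𝒩 g h) g := fun j m hm => by
  rw [degPart_of_mem 𝒜 ℳ 𝒩 g h hm]
  exact cmp_mem 𝒩 _ _

theorem isGrHom_degPart (h : M →ₗ[R] N) : IsGrHom ℳ 𝒩 (degPart 𝒜 ℳ 𝒩 0 h) :=
  (isGrHomDeg_zero_iff ℳ 𝒩).1 (isGrHomDeg_degPart 𝒜 ℳ 𝒩 0 h)

/-- The degree zero part agrees with the map on the image of a homogeneous map into whose
composite is homogeneous. -/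
theorem degPart_comp {A : Type u} [AddCommGroup A] [Module R A] {τ'' : Type u} [SetLike τ'' A]
    [AddSubgroupClass τ'' A] (𝒟 : ι → τ'') [Decomposition 𝒟] {f : A →ₗ[R] M}
    (hf : IsGrHom 𝒟 ℳ f) {h : M →ₗ[R] N} (hg : IsGrHom 𝒟 𝒩 (h ∘ₗ f)) :
    degPart 𝒜 ℳ 𝒩 0 h ∘ₗ f = h ∘ₗ f :=
  eq_of_eqOn_pieces 𝒟 fun d x hx => by
    rw [LinearMap.comp_apply, degPart_of_mem 𝒜 ℳ 𝒩 0 h (hf d x hx), add_zero]
    exact cmp_of_mem 𝒩 (hg d x hx)

/-- On a finite module a linear map is the sum of finitely many of its homogeneous parts. -/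
theorem exists_sum_degPart [Module.Finite R M] (h : M →ₗ[R] N) :
    ∃ D : Finset ι, ∑ g ∈ D, degPart 𝒜 ℳ 𝒩 g h = h := by
  classical
  obtain ⟨s, hs⟩ := Module.Finite.fg_top (R := R) (M := M)
  choose T hT using fun m : M => cmp_support ℳ m
  choose S hS using fun m : N => cmp_support 𝒩 m
  refine ⟨s.biUnion fun x => (T x).biUnion fun j => (S (h (cmp ℳ j x))).image (· - j),
    LinearMap.ext_on hs fun x hx => ?_⟩
  rw [LinearMap.sum_apply]
  conv_rhs => rw [← (hT x).1, map_sum]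
  conv_lhs =>
    enter [2, g]
    rw [← (hT x).1, map_sum]
  rw [Finset.sum_comm]
  refine Finset.sum_congr rfl fun j hj => ?_
  simp only [degPart_of_mem 𝒜 ℳ 𝒩 _ h (cmp_mem ℳ j x)]
  conv_rhs => rw [← (hS (h (cmp ℳ j x))).1]
  symm
  refine Eq.trans ?_ (Finset.sum_map _ ⟨(j + ·), add_right_injective j⟩
    fun e => cmp 𝒩 e (h (cmp ℳ j x)))
  refine Finset.sum_subset (fun e he => Finset.mem_map.2 ⟨e - j, ?_, by simp⟩)
    fun e _ he => (hS _).2 e he
  exact Finset.mem_biUnion.2 ⟨x, hx, Finset.mem_biUnion.2 ⟨j, hj, Finset.mem_image.2 ⟨e, he, rfl⟩⟩⟩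

end DegPart

end Groth.Agent.GrInj18
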