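import Groth.Agent.GrInj18.Basic
import Mathlib.Algebra.Category.ModuleCat.EnoughInjectives
import Mathlib.Algebra.Category.ModuleCat.Injective

/-!
# Cofree graded modules: the right adjoint of forgetting the grading

For an `R`-module `Q` the module `ι →₀ Q` ("`Q[t^ι]`"), with a homogeneous `r` of degree `h` sending
`q t^g` to `(r q) t^{g + h}`, receives exactly one homogeneous map from a graded module `M` for every
`R`-linear map `M → Q`.  So it is *injective when `Q` is injective, and there are enough *injectives.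
-/

universe u

open DirectSum GrLC

namespace Groth.Agent.GrInj18

variable {ι : Type} [DecidableEq ι] [AddCommGroup ι]
variable {R : Type u} [CommRing R] {σ : Type u} [SetLike σ R] [AddSubgroupClass σ R]
  (𝒜 : ι → σ) [GradedRing 𝒜]

/-- The cofree graded module on `Q`. -/
def Cofree (_𝒜 : ι → σ) (Q : Type u) [AddCommGroup Q] : Type u := ι →₀ Q

variable (Q : Type u) [AddCommGroup Q]

noncomputable instance : AddCommGroup (Cofree 𝒜 Q) :=
  inferInstanceAs (AddCommGroup (ι →₀ Q))

variable {Q}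

/-- The element `q t^g`. -/
noncomputable def Cofree.single (g : ι) : Q →+ Cofree 𝒜 Q := Finsupp.singleAddHom g

/-- The coefficient of `t^g`. -/
noncomputable def Cofree.coeff (g : ι) : Cofree 𝒜 Q →+ Q := Finsupp.applyAddHom g

omit [AddSubgroupClass σ R] [GradedRing 𝒜] [AddCommGroup ι] in
theorem Cofree.coeff_single (g e : ι) (q : Q) :
    Cofree.coeff 𝒜 e (Cofree.single 𝒜 g q) = if g = e then q else 0 :=
  Finsupp.single_apply

@[elab_as_elim]
theorem Cofree.induction {p : Cofree 𝒜 Q → Prop} (v : Cofree 𝒜 Q) (h0 : p 0)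
    (hadd : ∀ x y, p x → p y → p (x + y)) (hs : ∀ g q, p (Cofree.single 𝒜 g q)) : p v :=
  Finsupp.induction_linear v h0 hadd hs

variable [Module R Q]

/-- The action of a homogeneous element. -/
noncomputable def homogAct (i : ι) (a : R) : Cofree 𝒜 Q →+ Cofree 𝒜 Q :=
  (Finsupp.mapDomain.addMonoidHom (fun g => i + g)).comp
    (Finsupp.mapRange.addMonoidHom (DistribSMul.toAddMonoidHom Q a))

omit [AddSubgroupClass σ R] [GradedRing 𝒜] [DecidableEq ι] in
theorem homogAct_single (i : ι) (a : R) (g : ι) (q : Q) :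
    homogAct 𝒜 i a (Cofree.single 𝒜 g q) = Cofree.single 𝒜 (i + g) (a • q) := by
  change Finsupp.mapDomain _ (Finsupp.mapRange (a • ·) (smul_zero a) (Finsupp.single g q)) =
    Finsupp.single _ _
  rw [Finsupp.mapRange_single, Finsupp.mapDomain_single]

omit [Module R Q] in
theorem cofreeEnd_ext {φ ψ : AddMonoid.End (Cofree 𝒜 Q)}
    (h : ∀ g q, φ (Cofree.single 𝒜 g q) = ψ (Cofree.single 𝒜 g q)) : φ = ψ :=
  DFunLike.ext φ ψ fun v => by
    induction v using Cofree.induction 𝒜 with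
    | h0 => exact (map_zero φ).trans (map_zero ψ).symm
    | hadd x y hx hy => rw [map_add, map_add, hx, hy]
    | hs g q => exact h g q

/-- The action of the degree `i` piece. -/
noncomputable def homogActHom (i : ι) : 𝒜 i →+ AddMonoid.End (Cofree 𝒜 Q) :=
  AddMonoidHom.mk' (fun a => (homogAct 𝒜 i (a : R) : AddMonoid.End (Cofree 𝒜 Q))) fun a b =>
    cofreeEnd_ext 𝒜 fun g q => by
      change homogAct (Q := Q) 𝒜 i ((a : R) + b) _ = homogAct (Q := Q) 𝒜 i (a : R) _ +
        homogAct (Q := Q) 𝒜 i (b : R) _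
      rw [homogAct_single, homogAct_single, homogAct_single, add_smul, map_add]

variable (Q) in
/-- The action of the ring. -/
noncomputable def cofreeAct : R →+* AddMonoid.End (Cofree 𝒜 Q) :=
  (DirectSum.toSemiring (homogActHom (Q := Q) 𝒜)
    (cofreeEnd_ext 𝒜 fun g q => by
      change homogAct 𝒜 0 (1 : R) _ = Cofree.single 𝒜 g q
      rw [homogAct_single, zero_add, one_smul])
    (fun {i j} a b => cofreeEnd_ext 𝒜 fun g q => by
      change homogAct 𝒜 (i + j) ((a : R) * b) _ = homogAct 𝒜 i _ (homogAct 𝒜 j _ _)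
      rw [homogAct_single, homogAct_single, homogAct_single, add_assoc, mul_smul])).comp
    (decomposeRingEquiv 𝒜).toRingHom

noncomputable instance : Module R (Cofree 𝒜 Q) :=
  Module.compHom (Cofree 𝒜 Q) (cofreeAct 𝒜 Q)

theorem Cofree.smul_single {i : ι} {a : R} (ha : a ∈ 𝒜 i) (g : ι) (q : Q) :
    a • Cofree.single 𝒜 g q = Cofree.single 𝒜 (i + g) (a • q) := by
  change cofreeAct 𝒜 Q a _ = _
  rw [← homogAct_single 𝒜 i a g q]
  congr 1
  change DirectSum.toAddMonoid _ (decompose 𝒜 a) = _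
  rw [decompose_of_mem 𝒜 ha, DirectSum.toAddMonoid_of]
  rfl

variable (Q) in
/-- The pieces `Q t^g`. -/
noncomputable def cofreeGr (g : ι) : AddSubgroup (Cofree 𝒜 Q) := (Cofree.single 𝒜 g).range

theorem cofreeGr_isInternal : IsInternal (cofreeGr 𝒜 Q) := by
  refine isInternal_of_proj _ (fun g => (Cofree.single 𝒜 g).comp (Cofree.coeff 𝒜 g))
    (fun g x => ⟨_, rfl⟩) (fun x => ⟨Finsupp.support x, Finsupp.sum_single x⟩) ?_ ?_
  · rintro g _ ⟨q, rfl⟩
    change Cofree.single 𝒜 g (Cofree.coeff 𝒜 g (Cofree.single 𝒜 g q)) = _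
    rw [Cofree.coeff_single, if_pos rfl]
  · rintro g e _ ⟨q, rfl⟩ h
    change Cofree.single 𝒜 e (Cofree.coeff 𝒜 e (Cofree.single 𝒜 g q)) = _
    rw [Cofree.coeff_single, if_neg h, map_zero]

noncomputable instance : Decomposition (cofreeGr 𝒜 Q) :=
  (cofreeGr_isInternal 𝒜).chooseDecomposition

instance : SetLike.GradedSMul 𝒜 (cofreeGr 𝒜 Q) :=
  ⟨fun _ j a x ha hx => by
    obtain ⟨q, rfl⟩ := hx
    exact ⟨a • q, (Cofree.smul_single 𝒜 ha j q).symm⟩⟩

variable (Q) in
/-- The cofree graded module, bundled. -/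
noncomputable abbrev gcofree : GMod.{u} 𝒜 :=
  { carrier := Cofree 𝒜 Q, gr := cofreeGr 𝒜 Q }

/-- Summing the coefficients, as an additive map. -/
noncomputable def Cofree.totalAux : Cofree 𝒜 Q →+ Q :=
  Finsupp.liftAddHom (fun _ => AddMonoidHom.id Q)

omit [Module R Q] in
theorem Cofree.totalAux_single (g : ι) (q : Q) :
    Cofree.totalAux 𝒜 (Cofree.single 𝒜 g q) = q :=
  Finsupp.liftAddHom_apply_single _ _ _

variable (Q) in
/-- Summing the coefficients. -/
noncomputable def Cofree.total : Cofree 𝒜 Q →ₗ[R] Q where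
  toFun := Cofree.totalAux 𝒜
  map_add' := map_add _
  map_smul' c v := by
    simp only [RingHom.id_apply]
    induction v using Cofree.induction 𝒜 with
    | h0 => simp
    | hadd x y hx hy => rw [smul_add, map_add, map_add, hx, hy, smul_add]
    | hs g q =>
      induction c using piece_induction 𝒜 with
      | h0 => simp
      | hadd a b ha hb => rw [add_smul, map_add, ha, hb, add_smul]
      | hp i a ha => rw [Cofree.smul_single 𝒜 ha, Cofree.totalAux_single, Cofree.totalAux_single]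

theorem Cofree.total_single (g : ι) (q : Q) : Cofree.total 𝒜 Q (Cofree.single 𝒜 g q) = q :=
  Cofree.totalAux_single 𝒜 g q

section Lift

variable {M : Type u} [AddCommGroup M] [Module R M] {τ : Type u} [SetLike τ M] [AddSubgroupClass τ M]
  (ℳ : ι → τ) [Decomposition ℳ] [SetLike.GradedSMul 𝒜 ℳ]

/-- The homogeneous map into the cofree module given by a linear map, as an additive map. -/
noncomputable def cofreeLiftAux (f : M →ₗ[R] Q) : M →+ Cofree 𝒜 Q :=
  (DirectSum.toAddMonoid fun j => (Cofree.single 𝒜 j).comp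
      (f.toAddMonoidHom.comp (AddSubgroupClass.subtype (ℳ j)))).comp
    (decomposeAddEquiv ℳ).toAddMonoidHom

theorem cofreeLiftAux_of_mem (f : M →ₗ[R] Q) {j : ι} {m : M} (hm : m ∈ ℳ j) :
    cofreeLiftAux 𝒜 ℳ f m = Cofree.single 𝒜 j (f m) := by
  change DirectSum.toAddMonoid _ (decompose ℳ m) = _
  rw [decompose_of_mem ℳ hm, DirectSum.toAddMonoid_of]
  rfl

/-- The homogeneous map into the cofree module given by a linear map. -/
noncomputable def cofreeLift (f : M →ₗ[R] Q) : M →ₗ[R] Cofree 𝒜 Q where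
  toFun := cofreeLiftAux 𝒜 ℳ f
  map_add' := map_add _
  map_smul' c m := by
    induction c using piece_induction 𝒜 with
    | h0 => simp
    | hadd a b ha hb => simp only [RingHom.id_apply] at ha hb ⊢; rw [add_smul, map_add, ha, hb, add_smul]
    | hp i a ha =>
      simp only [RingHom.id_apply]
      induction m using piece_induction ℳ with
      | h0 => simp
      | hadd x y hx hy => simp [smul_add, hx, hy]
      | hp j x hx =>
        rw [cofreeLiftAux_of_mem 𝒜 ℳ f (smul_mem_add 𝒜 ℳ ha hx), cofreeLiftAux_of_mem 𝒜 ℳ f hx,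
          Cofree.smul_single 𝒜 ha, map_smul]

theorem cofreeLift_of_mem (f : M →ₗ[R] Q) {j : ι} {m : M} (hm : m ∈ ℳ j) :
    cofreeLift 𝒜 ℳ f m = Cofree.single 𝒜 j (f m) :=
  cofreeLiftAux_of_mem 𝒜 ℳ f hm

theorem isGrHom_cofreeLift (f : M →ₗ[R] Q) :
    IsGrHom ℳ (cofreeGr 𝒜 Q) (cofreeLift 𝒜 ℳ f) := fun j m hm =>
  ⟨f m, (cofreeLift_of_mem 𝒜 ℳ f hm).symm⟩

theorem cofreeLift_injective {f : M →ₗ[R] Q} (hf : Function.Injective f) :
    Function.Injective (cofreeLift 𝒜 ℳ f) := by
  refine (injective_iff_map_eq_zero _).2 fun m hm => eq_zero_of_cmp ℳ fun d => ?_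
  have h := map_cmp ℳ (cofreeGr 𝒜 Q) (isGrHom_cofreeLift 𝒜 ℳ f) d m
  rw [hm, map_zero, cofreeLift_of_mem 𝒜 ℳ f (cmp_mem ℳ d m)] at h
  have h' := congrArg (Cofree.coeff 𝒜 d) h
  rw [Cofree.coeff_single, if_pos rfl, map_zero] at h'
  exact hf (h'.trans (map_zero f).symm)

end Lift

/-- The cofree module on an injective module is *injective. -/
theorem isStarInj_cofree [Module.Injective R Q] : IsStarInj 𝒜 (cofreeGr 𝒜 Q) := by
  intro A B f hf hinj g hg
  obtain ⟨k, hk⟩ := Module.Injective.out f hinj (Cofree.total 𝒜 Q ∘ₗ g)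
  refine ⟨cofreeLift 𝒜 B.gr k, isGrHom_cofreeLift 𝒜 B.gr k,
    eq_of_eqOn_pieces A.gr fun j a ha => ?_⟩
  obtain ⟨q, hq⟩ := hg j a ha
  rw [LinearMap.comp_apply, cofreeLift_of_mem 𝒜 B.gr k (hf j a ha), hk, LinearMap.comp_apply,
    ← hq, Cofree.total_single]

/-- Enough *injectives. -/
theorem exists_starInj_embedding {M : Type u} [AddCommGroup M] [Module R M] {τ : Type u}
    [SetLike τ M] [AddSubgroupClass τ M] (ℳ : ι → τ) [Decomposition ℳ]
    [SetLike.GradedSMul 𝒜 ℳ] :
    ∃ (X : GMod.{u} 𝒜) (f : M →ₗ[R] X.carrier),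
      IsStarInj 𝒜 X.gr ∧ IsGrHom ℳ X.gr f ∧ Function.Injective f := by
  obtain ⟨⟨J, hJ, φ, hφ⟩⟩ :=
    CategoryTheory.EnoughInjectives.presentation (C := ModuleCat.{u} R) (ModuleCat.of R M)
  have : CategoryTheory.Injective (ModuleCat.of R (J : Type u)) := hJ
  have : Module.Injective R J := Module.injective_module_of_injective_object R J
  exact ⟨gcofree 𝒜 J, cofreeLift 𝒜 ℳ φ.hom, isStarInj_cofree 𝒜,
    isGrHom_cofreeLift 𝒜 ℳ φ.hom,
    cofreeLift_injective 𝒜 ℳ ((ModuleCat.mono_iff_injective φ).1 hφ)⟩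

end Groth.Agent.GrInj18
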