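import Groth.Agent.GrInj18.Prime
import Groth.Agent.Gor18.ExtShift
import Mathlib.Algebra.Homology.DerivedCategory.Ext.ExactSequences
import Mathlib.Algebra.Homology.DerivedCategory.Ext.EnoughProjectives
import Mathlib.Algebra.Category.ModuleCat.Projective

/-!
# *injective modules are acyclic for `Hom` out of finite graded modules
-/

universe u

open DirectSum GrLC CategoryTheory Abelian

namespace Groth.Agent.GrInj18

variable {ι : Type} [DecidableEq ι] [AddCommGroup ι]
variable {R : Type u} [CommRing R] {σ : Type u} [SetLike σ R] [AddSubgroupClass σ R]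
  (𝒜 : ι → σ) [GradedRing 𝒜]

/-- The pieces of a free module with generators in given degrees. -/
def freeGr {k : ℕ} (deg : Fin k → ι) (j : ι) : AddSubgroup (Fin k → R) where
  carrier := {v | ∀ a, v a ∈ 𝒜 (j - deg a)}
  zero_mem' := fun _ => zero_mem _
  add_mem' := fun hv hw a => add_mem (hv a) (hw a)
  neg_mem' := fun hv a => neg_mem (hv a)

theorem freeGr_isInternal {k : ℕ} (deg : Fin k → ι) : IsInternal (freeGr 𝒜 deg) := by
  let c : ι → (Fin k → R) →+ (Fin k → R) := fun j =>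
    { toFun := fun v a => cmp 𝒜 (j - deg a) (v a)
      map_zero' := funext fun a => map_zero _
      map_add' := fun v w => funext fun a => map_add _ _ _ }
  refine isInternal_of_proj _ c (fun j v a => cmp_mem 𝒜 _ _) (fun v => ?_)
    (fun j v hv => funext fun a => cmp_of_mem 𝒜 (hv a))
    (fun j e v hv h => funext fun a => cmp_of_ne 𝒜 (hv a) fun h' => h (sub_left_injective h'))
  choose t ht h0 using fun a => cmp_support 𝒜 (v a)
  refine ⟨Finset.univ.biUnion fun a => (t a).image (· + deg a), funext fun a => ?_⟩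
  rw [Finset.sum_apply]
  refine Eq.trans ?_ (ht a)
  symm
  refine Eq.trans ?_ (Finset.sum_subset
    (s₁ := (t a).image (· + deg a))
    (fun x hx => Finset.mem_biUnion.2 ⟨a, Finset.mem_univ a, hx⟩) fun x _ hx => ?_)
  · rw [Finset.sum_image fun x _ y _ h => add_right_cancel h]
    refine Finset.sum_congr rfl fun x _ => ?_
    change _ = cmp 𝒜 (x + deg a - deg a) (v a)
    rw [add_sub_cancel_right]
  · exact h0 a _ fun h => hx (Finset.mem_image.2 ⟨_, h, sub_add_cancel x (deg a)⟩)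

noncomputable instance {k : ℕ} (deg : Fin k → ι) : Decomposition (freeGr 𝒜 deg) :=
  (freeGr_isInternal 𝒜 deg).chooseDecomposition

instance {k : ℕ} (deg : Fin k → ι) : SetLike.GradedSMul 𝒜 (freeGr 𝒜 deg) :=
  ⟨fun i j r v hr hv a => by
    have h : r * v a ∈ 𝒜 (i + (j - deg a)) := SetLike.mul_mem_graded hr (hv a)
    rw [← add_sub_assoc] at h
    exact h⟩

variable {M : Type u} [AddCommGroup M] [Module R M] {τ : Type u} [SetLike τ M] [AddSubgroupClass τ M]
  (ℳ : ι → τ) [Decomposition ℳ] [SetLike.GradedSMul 𝒜 ℳ]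

/-- A finite graded module is a homogeneous quotient of a finite free graded module. -/
theorem exists_free_cover [Module.Finite R M] :
    ∃ (k : ℕ) (deg : Fin k → ι) (π : (Fin k → R) →ₗ[R] M),
      IsGrHom (freeGr 𝒜 deg) ℳ π ∧ Function.Surjective π := by
  classical
  obtain ⟨s, hs⟩ := Module.Finite.fg_top (R := R) (M := M)
  choose t ht using fun m : M => exists_sum_cmp ℳ m
  let T : Finset (ι × M) := s.biUnion fun m => (t m).image fun d => (d, cmp ℳ d m)
  let e := T.equivFin.symm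
  refine ⟨T.card, fun a => (e a).1.1, Fintype.linearCombination R fun a => (e a).1.2,
    fun j v hv => ?_, ?_⟩
  · rw [Fintype.linearCombination_apply]
    refine sum_mem fun a _ => ?_
    obtain ⟨m, -, hm⟩ := Finset.mem_biUnion.1 (e a).2
    obtain ⟨d, -, hd⟩ := Finset.mem_image.1 hm
    have hmem : (e a).1.2 ∈ ℳ (e a).1.1 := by rw [← hd]; exact cmp_mem ℳ d m
    have h := smul_mem_add 𝒜 ℳ (hv a) hmem
    rwa [sub_add_cancel] at h
  · rw [← LinearMap.range_eq_top, eq_top_iff, ← hs, Submodule.span_le]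
    intro m hm
    rw [SetLike.mem_coe, ← ht m]
    refine sum_mem fun d hd => ?_
    have hdT : (d, cmp ℳ d m) ∈ T :=
      Finset.mem_biUnion.2 ⟨m, hm, Finset.mem_image.2 ⟨d, hd, rfl⟩⟩
    obtain ⟨a, ha⟩ := e.surjective ⟨_, hdT⟩
    refine ⟨Pi.single a 1, ?_⟩
    rw [Fintype.linearCombination_apply_single, one_smul, ha]

variable {I : Type u} [AddCommGroup I] [Module R I] (ℐ : ι → AddSubgroup I) [Decomposition ℐ]
  [SetLike.GradedSMul 𝒜 ℐ]

/-- Linear maps out of a homogeneous submodule which is finite extend. -/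
theorem exists_extend_of_finite (hI : IsStarInj 𝒜 ℐ) {N : Type u} [AddCommGroup N] [Module R N]
    {τ' : Type u} [SetLike τ' N] [AddSubgroupClass τ' N] (𝒩 : ι → τ') [Decomposition 𝒩]
    [SetLike.GradedSMul 𝒜 𝒩] [Module.Finite R M] {f : M →ₗ[R] N} (hf : IsGrHom ℳ 𝒩 f)
    (hinj : Function.Injective f) (h : M →ₗ[R] I) : ∃ h' : N →ₗ[R] I, h' ∘ₗ f = h := by
  obtain ⟨D, hD⟩ := exists_sum_degPart 𝒜 ℳ ℐ h
  have hext : ∀ g, ∃ h' : N →ₗ[R] I, h' ∘ₗ f = degPart 𝒜 ℳ ℐ g h := fun g => by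
    obtain ⟨h', -, he⟩ := exists_grExtend 𝒜 ℳ 𝒩 (shiftGr ℐ (-g))
      (isStarInj_shift 𝒜 ℐ hI (-g)) hf hinj (g := degPart 𝒜 ℳ ℐ g h) fun j m hm => by
        change degPart 𝒜 ℳ ℐ g h m ∈ ℐ (j - -g)
        rw [sub_neg_eq_add]
        exact isGrHomDeg_degPart 𝒜 ℳ ℐ g h j m hm
    exact ⟨h', he⟩
  choose e he using hext
  refine ⟨∑ g ∈ D, e g, LinearMap.ext fun m => ?_⟩
  rw [LinearMap.comp_apply, LinearMap.sum_apply]
  conv_rhs => rw [← hD, LinearMap.sum_apply]
  exact Finset.sum_congr rfl fun g _ => LinearMap.congr_fun (he g) m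

theorem subsingleton_ext_of_isStarInj [IsNoetherianRing R] (hI : IsStarInj 𝒜 ℐ) (i : ℕ) :
    ∀ (A : GMod.{u} 𝒜) [Module.Finite R A.carrier],
      Subsingleton (Ext.{u} (ModuleCat.of R A.carrier) (ModuleCat.of R I) (i + 1)) := by
  induction i with
  | zero =>
    intro A _
    obtain ⟨k, deg, π, hπ, hsurj⟩ := exists_free_cover 𝒜 A.gr
    have hK := isHomogeneous_ker (freeGr 𝒜 deg) A.gr hπ
    let K := gsub 𝒜 (freeGr 𝒜 deg) hK
    let : Decomposition (subGr (freeGr 𝒜 deg) (LinearMap.ker π)) := K.dec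
    have hS := Gor18.shortExact_of (LinearMap.ker π).subtype_injective
      (LinearMap.exact_subtype_ker_map π) hsurj
    refine subsingleton_of_forall_eq 0 fun x => ?_
    obtain ⟨y, rfl⟩ := Ext.contravariant_sequence_exact₃ hS (ModuleCat.of R I) x
      (Ext.eq_zero_of_projective _) (Nat.add_comm 1 0)
    obtain ⟨φ, rfl⟩ := (Ext.mk₀_bijective _ _).2 y
    obtain ⟨ψ, hψ⟩ := exists_extend_of_finite 𝒜 (subGr (freeGr 𝒜 deg) (LinearMap.ker π)) ℐ hI
      (freeGr 𝒜 deg) (isGrHom_subtype (freeGr 𝒜 deg) (LinearMap.ker π))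
      (LinearMap.ker π).subtype_injective φ.hom
    have hφ : φ = ModuleCat.ofHom (LinearMap.ker π).subtype ≫ ModuleCat.ofHom ψ :=
      ModuleCat.hom_ext hψ.symm
    rw [hφ, ← Ext.mk₀_comp_mk₀]
    exact hS.extClass_comp_assoc _
  | succ n ih =>
    intro A _
    obtain ⟨k, deg, π, hπ, hsurj⟩ := exists_free_cover 𝒜 A.gr
    have hK := isHomogeneous_ker (freeGr 𝒜 deg) A.gr hπ
    have hS := Gor18.shortExact_of (LinearMap.ker π).subtype_injective
      (LinearMap.exact_subtype_ker_map π) hsurj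
    refine subsingleton_of_forall_eq 0 fun x => ?_
    obtain ⟨y, rfl⟩ := Ext.contravariant_sequence_exact₃ hS (ModuleCat.of R I) x
      (Ext.eq_zero_of_projective _) (Nat.add_comm 1 (n + 1))
    have : Module.Finite R (gsub 𝒜 (freeGr 𝒜 deg) hK).carrier :=
      inferInstanceAs (Module.Finite R (LinearMap.ker π))
    rw [(ih (gsub 𝒜 (freeGr 𝒜 deg) hK)).elim y 0, Ext.comp_zero]

end Groth.Agent.GrInj18
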