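import Groth.Agent.GrInj18.Basic
import Groth.Agent.InjHull18.Basic

/-!
# *essential extensions
-/

universe u

open DirectSum GrLC

namespace Groth.Agent.GrInj18

variable {ι : Type} [DecidableEq ι] [AddCommGroup ι]
variable {R : Type u} [CommRing R] {σ : Type u} [SetLike σ R] [AddSubgroupClass σ R]
  (𝒜 : ι → σ) [GradedRing 𝒜]
variable {M : Type u} [AddCommGroup M] [Module R M] {τ : Type u} [SetLike τ M] [AddSubgroupClass τ M]
  (ℳ : ι → τ)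
variable {N : Type u} [AddCommGroup N] [Module R N] {τ' : Type u} [SetLike τ' N]
  [AddSubgroupClass τ' N] (𝒩 : ι → τ') [Decomposition 𝒩]

/-- From homogeneous test elements to all elements: every nonzero element has a multiple in `S`. -/
theorem exists_smul_mem_of_homog [SetLike.GradedSMul 𝒜 𝒩] {S : Submodule R N}
    (h : ∀ d, ∀ x ∈ 𝒩 d, x ≠ 0 → ∃ (i : ι) (r : R), r ∈ 𝒜 i ∧ r • x ∈ S ∧ r • x ≠ 0)
    {x : N} (hx : x ≠ 0) : ∃ r : R, r • x ∈ S ∧ r • x ≠ 0 := by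
  obtain ⟨t, ht, hsupp⟩ := cmp_support 𝒩 x
  have hS : ∀ d ∉ t, cmp 𝒩 d x ∈ S := fun d hd => by simp [hsupp d hd]
  clear ht hsupp
  induction hn : t.card using Nat.strong_induction_on generalizing t x with
  | h n ih =>
    rcases t.eq_empty_or_nonempty with rfl | ⟨d, hd⟩
    · obtain ⟨s, hs⟩ := exists_sum_cmp 𝒩 x
      refine ⟨1, ?_, by simpa using hx⟩
      rw [one_smul, ← hs]
      exact sum_mem fun e _ => hS e (Finset.notMem_empty e)
    subst hn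
    by_cases hdS : cmp 𝒩 d x ∈ S
    · refine ih _ (Finset.card_erase_lt_of_mem hd) hx (t.erase d) (fun e he => ?_) rfl
      rcases eq_or_ne e d with rfl | hne
      · exact hdS
      · exact hS e fun het => he (Finset.mem_erase.2 ⟨hne, het⟩)
    · obtain ⟨i, r, hr, hrS, hr0⟩ := h d _ (cmp_mem 𝒩 d x) fun h0 => hdS (h0 ▸ S.zero_mem)
      have hrx : r • x ≠ 0 := fun h0 => hr0 (by
        rw [← cmp_smul_add 𝒜 𝒩 d hr, h0, map_zero])
      have hcard : ((t.erase d).image (· + i)).card < t.card :=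
        lt_of_le_of_lt Finset.card_image_le (Finset.card_erase_lt_of_mem hd)
      have hS' : ∀ e ∉ (t.erase d).image (· + i), cmp 𝒩 e (r • x) ∈ S := by
        intro e he
        rw [cmp_smul_homog_left 𝒜 𝒩 e hr]
        by_cases hed : e - i = d
        · rw [hed]; exact hrS
        · exact S.smul_mem r (hS _ fun het => he (Finset.mem_image.2
            ⟨e - i, Finset.mem_erase.2 ⟨hed, het⟩, sub_add_cancel e i⟩))
      obtain ⟨s, hs, hs0⟩ := ih _ hcard hrx _ hS' rfl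
      exact ⟨s * r, by rwa [mul_smul], by rwa [mul_smul]⟩

theorem exists_homog_ne_zero {P : Submodule R N} (hP : P.IsHomogeneous 𝒩) (h : P ≠ ⊥) :
    ∃ d, ∃ x ∈ P, x ∈ 𝒩 d ∧ x ≠ 0 := by
  obtain ⟨y, hy, hy0⟩ := (Submodule.ne_bot_iff _).1 h
  by_contra! hcon
  exact hy0 (eq_zero_of_cmp 𝒩 fun d => hcon d _ (hP d hy) (cmp_mem 𝒩 d y))

include 𝒜 in
theorem isStarEss_of_forall [SetLike.GradedSMul 𝒜 𝒩] {f : M →ₗ[R] N} (hf : Function.Injective f)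
    (hg : IsGrHom ℳ 𝒩 f)
    (h : ∀ d, ∀ x ∈ 𝒩 d, x ≠ 0 →
      ∃ (i : ι) (r : R), r ∈ 𝒜 i ∧ r • x ∈ LinearMap.range f ∧ r • x ≠ 0) :
    IsStarEss ℳ 𝒩 f := by
  refine ⟨hf, hg, fun P hP hP0 => ?_⟩
  obtain ⟨d, x, hxP, hxd, hx0⟩ := exists_homog_ne_zero 𝒩 hP hP0
  obtain ⟨i, r, -, hr, hr0⟩ := h d x hxd hx0
  exact (Submodule.ne_bot_iff _).2 ⟨r • x, ⟨P.smul_mem r hxP, hr⟩, hr0⟩

theorem exists_homog_smul [Decomposition ℳ] [SetLike.GradedSMul 𝒜 𝒩] {f : M →ₗ[R] N}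
    (hf : IsStarEss ℳ 𝒩 f) {d : ι} {x : N} (hx : x ∈ 𝒩 d) (hx0 : x ≠ 0) :
    ∃ (i : ι) (r : R), r ∈ 𝒜 i ∧ r • x ∈ LinearMap.range f ∧ r • x ≠ 0 := by
  obtain ⟨e, y, ⟨hy, hyr⟩, hye, hy0⟩ := exists_homog_ne_zero 𝒩
    (isHomogeneous_inf 𝒩 (isHomogeneous_span_singleton 𝒩 𝒜 hx)
      (isHomogeneous_range ℳ 𝒩 hf.grHom))
    (hf.essential (R ∙ x) (isHomogeneous_span_singleton 𝒩 𝒜 hx) (by simpa using hx0))
  obtain ⟨c, rfl⟩ := Submodule.mem_span_singleton.1 hy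
  have heq : cmp 𝒜 (e - d) c • x = c • x := by
    rw [← cmp_smul_homog_right 𝒜 𝒩 e hx c, cmp_of_mem 𝒩 hye]
  exact ⟨e - d, cmp 𝒜 (e - d) c, cmp_mem 𝒜 _ _, by rwa [heq], by rwa [heq]⟩

include 𝒜 in
/-- A *essential extension is essential. -/
theorem isEssentialInj_of_isStarEss [Decomposition ℳ] [SetLike.GradedSMul 𝒜 𝒩] {f : M →ₗ[R] N}
    (hf : IsStarEss ℳ 𝒩 f) : InjHull.IsEssentialInj f :=
  InjHull18.isEssentialInj_iff.2 ⟨hf.injective, fun _ hx =>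
    exists_smul_mem_of_homog 𝒜 𝒩 (fun _ _ hxd hx0 => exists_homog_smul 𝒜 ℳ 𝒩 hf hxd hx0) hx⟩

/-- A homogeneous map out of a *essential extension which is injective on the submodule is
injective. -/
theorem injective_of_comp {P : Type u} [AddCommGroup P] [Module R P] {τ'' : Type u} [SetLike τ'' P]
    [AddSubgroupClass τ'' P] (𝒢 : ι → τ'') [Decomposition 𝒢] {f : M →ₗ[R] N}
    (hf : IsStarEss ℳ 𝒩 f) {g : N →ₗ[R] P} (hg : IsGrHom 𝒩 𝒢 g)
    (h : Function.Injective (g ∘ₗ f)) : Function.Injective g := by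
  rw [← LinearMap.ker_eq_bot]
  by_contra hne
  refine hf.essential _ (isHomogeneous_ker 𝒩 𝒢 hg) hne ((Submodule.eq_bot_iff _).2 ?_)
  rintro x ⟨hx, m, rfl⟩
  have hm : m = 0 := h (show g (f m) = g (f 0) by simpa using hx)
  simp [hm]

theorem isStarEss_of_comp {P : Type u} [AddCommGroup P] [Module R P] {τ'' : Type u}
    [SetLike τ'' P] [AddSubgroupClass τ'' P] (𝒢 : ι → τ'') [Decomposition 𝒢] {f : M →ₗ[R] N}
    {g : N →ₗ[R] P} (hg : IsGrHom 𝒩 𝒢 g) (hgi : Function.Injective g)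
    (h : IsStarEss ℳ 𝒢 (g ∘ₗ f)) : IsStarEss 𝒩 𝒢 g :=
  ⟨hgi, hg, fun Q hQ hQ0 hbot => h.essential Q hQ hQ0
    (le_bot_iff.1 (hbot ▸ inf_le_inf_left Q (LinearMap.range_comp_le_range f g)))⟩

end Groth.Agent.GrInj18
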