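import Groth.Agent.GrInj18.Cofree
import Groth.Agent.GrInj18.StarEss
import Mathlib.Order.Zorn

/-!
# *injective envelopes
-/

universe u

open DirectSum GrLC

namespace Groth.Agent.GrInj18

variable {ι : Type} [DecidableEq ι] [AddCommGroup ι]
variable {R : Type u} [CommRing R] {σ : Type u} [SetLike σ R] [AddSubgroupClass σ R]
  (𝒜 : ι → σ) [GradedRing 𝒜]
variable {M : Type u} [AddCommGroup M] [Module R M] {τ : Type u} [SetLike τ M] [AddSubgroupClass τ M]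
  (ℳ : ι → τ) [Decomposition ℳ] [SetLike.GradedSMul 𝒜 ℳ]
variable {N : Type u} [AddCommGroup N] [Module R N] {τ' : Type u} [SetLike τ' N]
  [AddSubgroupClass τ' N] (𝒩 : ι → τ') [Decomposition 𝒩] [SetLike.GradedSMul 𝒜 𝒩]

omit [DecidableEq ι] [Decomposition ℳ] [SetLike.GradedSMul 𝒜 ℳ] [Decomposition 𝒩]
  [SetLike.GradedSMul 𝒜 𝒩] [AddSubgroupClass σ R] [GradedRing 𝒜] [AddSubgroupClass τ M]
  [AddSubgroupClass τ' N] [AddCommGroup ι] in
theorem isGrHom_comp {P : Type u} [AddCommGroup P] [Module R P] {τ'' : Type u} [SetLike τ'' P]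
    (𝒢 : ι → τ'') {f : M →ₗ[R] N} {g : N →ₗ[R] P} (hf : IsGrHom ℳ 𝒩 f) (hg : IsGrHom 𝒩 𝒢 g) :
    IsGrHom ℳ 𝒢 (g ∘ₗ f) := fun d m hm => hg d _ (hf d m hm)

omit [DecidableEq ι] [Decomposition ℳ] [SetLike.GradedSMul 𝒜 ℳ] [AddSubgroupClass σ R]
  [GradedRing 𝒜] [AddSubgroupClass τ M] [AddCommGroup ι] in
theorem isGrHom_id : IsGrHom ℳ ℳ (LinearMap.id : M →ₗ[R] M) := fun _ _ hm => hm

/-- The extension property for graded modules with pieces of any type. -/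
theorem exists_grExtend {P : Type u} [AddCommGroup P] [Module R P] {τ'' : Type u} [SetLike τ'' P]
    [AddSubgroupClass τ'' P] (𝒢 : ι → τ'') [Decomposition 𝒢] [SetLike.GradedSMul 𝒜 𝒢]
    (hI : IsStarInj 𝒜 𝒢) {f : M →ₗ[R] N} (hf : IsGrHom ℳ 𝒩 f) (hinj : Function.Injective f)
    {g : M →ₗ[R] P} (hg : IsGrHom ℳ 𝒢 g) : ∃ h : N →ₗ[R] P, IsGrHom 𝒩 𝒢 h ∧ h ∘ₗ f = g :=
  hI (gof 𝒜 ℳ) (gof 𝒜 𝒩) f hf hinj g hg

/-- A homogeneous retract of a *injective module is *injective. -/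
theorem isStarInj_of_retract (hN : IsStarInj 𝒜 𝒩) (s : M →ₗ[R] N) (r : N →ₗ[R] M)
    (hs : IsGrHom ℳ 𝒩 s) (hr : IsGrHom 𝒩 ℳ r) (h : r ∘ₗ s = LinearMap.id) : IsStarInj 𝒜 ℳ := by
  intro A B f hf hinj g hg
  obtain ⟨k, hk, hkf⟩ := hN A B f hf hinj (s ∘ₗ g) (isGrHom_comp A.gr ℳ 𝒩 hg hs)
  exact ⟨r ∘ₗ k, isGrHom_comp B.gr 𝒩 ℳ hk hr,
    by rw [LinearMap.comp_assoc, hkf, ← LinearMap.comp_assoc, h, LinearMap.id_comp]⟩

/-- A *injective module has no proper *essential extension. -/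
theorem surjective_of_starInj_of_starEss (hM : IsStarInj 𝒜 ℳ) {f : M →ₗ[R] N}
    (hf : IsStarEss ℳ 𝒩 f) : Function.Surjective f := by
  obtain ⟨r, hr, hrf⟩ := exists_grExtend 𝒜 ℳ 𝒩 ℳ hM hf.grHom hf.injective (isGrHom_id ℳ)
  have hinj : Function.Injective r :=
    injective_of_comp ℳ 𝒩 ℳ hf hr (by rw [hrf]; exact Function.injective_id)
  exact fun x => ⟨r x, hinj (LinearMap.congr_fun hrf (r x))⟩

/-- A module with no proper *essential extension is *injective. -/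
theorem isStarInj_of_forall_surjective
    (h : ∀ (X : GMod.{u} 𝒜) (f : M →ₗ[R] X.carrier), IsStarEss ℳ X.gr f → Function.Surjective f) :
    IsStarInj 𝒜 ℳ := by
  obtain ⟨X, e, hX, he, hei⟩ := exists_starInj_embedding 𝒜 ℳ
  obtain ⟨C, hC⟩ : ∃ C, Maximal (fun C : Submodule R X.carrier =>
      C.IsHomogeneous X.gr ∧ C ⊓ LinearMap.range e = ⊥) C := by
    refine zorn_le₀ _ fun c hc hchain => ?_
    rcases c.eq_empty_or_nonempty with rfl | hne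
    · exact ⟨⊥, ⟨isHomogeneous_bot _, bot_inf_eq _⟩, fun z hz => hz.elim⟩
    refine ⟨sSup c, ⟨isHomogeneous_sSup _ fun P hP => (hc hP).1,
      (Submodule.eq_bot_iff _).2 ?_⟩, fun z hz => le_sSup hz⟩
    rintro x ⟨hx, hxe⟩
    obtain ⟨P, hP, hxP⟩ := (Submodule.mem_sSup_of_directed hne hchain.directedOn).1 hx
    exact (Submodule.mem_bot R).1 ((hc hP).2 ▸ Submodule.mem_inf.2 ⟨hxP, hxe⟩)
  obtain ⟨⟨hCh, hCe⟩, hCmax⟩ := hC
  let : Decomposition (quotPieces X.gr C) := (gquot 𝒜 X.gr hCh).dec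
  have hess : IsStarEss ℳ (quotPieces X.gr C) (C.mkQ ∘ₗ e) := by
    have hinj : Function.Injective (C.mkQ ∘ₗ e) := by
      refine (injective_iff_map_eq_zero _).2 fun m hm => hei ?_
      have hmem : e m ∈ C ⊓ LinearMap.range e :=
        ⟨(Submodule.Quotient.mk_eq_zero C).1 hm, m, rfl⟩
      rw [hCe, Submodule.mem_bot] at hmem
      rw [hmem, map_zero]
    refine isStarEss_of_forall 𝒜 ℳ (quotPieces X.gr C) hinj
      (isGrHom_comp ℳ X.gr (quotPieces X.gr C) he (isGrHom_mkQ X.gr C)) ?_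
    rintro d _ ⟨x, hx, rfl⟩ hx0
    have hxC : x ∉ C := fun hxC => hx0 ((Submodule.Quotient.mk_eq_zero C).2 hxC)
    have hsup : (C ⊔ R ∙ x) ⊓ LinearMap.range e ≠ ⊥ := fun hbot => hxC
      (hCmax ⟨isHomogeneous_sup _ hCh (isHomogeneous_span_singleton X.gr 𝒜 hx), hbot⟩ le_sup_left
        (Submodule.mem_sup_right (Submodule.mem_span_singleton_self x)))
    obtain ⟨j, y, ⟨hy, m, rfl⟩, hyj, hy0⟩ := exists_homog_ne_zero X.gr
      (isHomogeneous_inf X.gr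
        (isHomogeneous_sup _ hCh (isHomogeneous_span_singleton X.gr 𝒜 hx))
        (isHomogeneous_range ℳ X.gr he)) hsup
    obtain ⟨c, hc, z, hz, hcz⟩ := Submodule.mem_sup.1 hy
    obtain ⟨a, rfl⟩ := Submodule.mem_span_singleton.1 hz
    have hmk : C.mkQ (e m) = cmp 𝒜 (j - d) a • C.mkQ x := by
      rw [← cmp_of_mem X.gr hyj, ← hcz, map_add, map_add, cmp_smul_homog_right 𝒜 X.gr j hx a,
        map_smul, Submodule.mkQ_apply, (Submodule.Quotient.mk_eq_zero C).2 (cmp_mem_of_isHomogeneous X.gr hCh j hc), zero_add]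
    refine ⟨j - d, cmp 𝒜 (j - d) a, cmp_mem 𝒜 _ _, ⟨m, hmk⟩, ?_⟩
    change cmp 𝒜 (j - d) a • C.mkQ x ≠ 0
    rw [← hmk]
    intro h0
    exact hy0 (by rw [hinj (h0.trans (map_zero (C.mkQ ∘ₗ e)).symm), map_zero])
  have hsurj := h (gquot 𝒜 X.gr hCh) _ hess
  let φ : M ≃ₗ[R] X.carrier ⧸ C := LinearEquiv.ofBijective _ ⟨hess.injective, hsurj⟩
  refine isStarInj_of_retract 𝒜 ℳ X.gr hX e (φ.symm.toLinearMap ∘ₗ C.mkQ) he (fun d x hx => ?_) ?_
  · exact isGrHom_symm ℳ (quotPieces X.gr C) (f := φ) hess.grHom d _ ⟨x, hx, rfl⟩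
  · ext m
    exact φ.symm_apply_apply m

/-- Every graded module has a *injective envelope. -/
theorem exists_isStarInjHull :
    ∃ (E : GMod.{u} 𝒜) (f : M →ₗ[R] E.carrier), IsStarInjHull 𝒜 ℳ E.gr f := by
  obtain ⟨X, e, hX, he, hei⟩ := exists_starInj_embedding 𝒜 ℳ
  let S : Set (Submodule R X.carrier) := {P | P.IsHomogeneous X.gr ∧ LinearMap.range e ≤ P ∧
    ∀ d, ∀ x ∈ P, x ∈ X.gr d → x ≠ 0 →
      ∃ (i : ι) (r : R), r ∈ 𝒜 i ∧ r • x ∈ LinearMap.range e ∧ r • x ≠ 0}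
  obtain ⟨P, hP⟩ : ∃ P, Maximal (· ∈ S) P := by
    refine zorn_le₀ S fun c hc hchain => ?_
    rcases c.eq_empty_or_nonempty with rfl | hne
    · exact ⟨LinearMap.range e, ⟨isHomogeneous_range ℳ X.gr he, le_rfl, fun d x hx hxd hx0 =>
        ⟨0, 1, SetLike.one_mem_graded 𝒜, by simpa using hx, by simpa using hx0⟩⟩,
        fun z hz => hz.elim⟩
    refine ⟨sSup c, ⟨isHomogeneous_sSup _ fun Q hQ => (hc hQ).1, ?_, ?_⟩, fun z hz => le_sSup hz⟩
    · obtain ⟨Q, hQ⟩ := hne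
      exact (hc hQ).2.1.trans (le_sSup hQ)
    · intro d x hx hxd hx0
      obtain ⟨Q, hQ, hxQ⟩ := (Submodule.mem_sSup_of_directed hne hchain.directedOn).1 hx
      exact (hc hQ).2.2 d x hxQ hxd hx0
  obtain ⟨⟨hPh, hPe, hPess⟩, hPmax⟩ := hP
  let E := gsub 𝒜 X.gr hPh
  let : Decomposition (subGr X.gr P) := E.dec
  let f : M →ₗ[R] P := e.codRestrict P fun m => hPe ⟨m, rfl⟩
  have hf : IsStarEss ℳ (subGr X.gr P) f := by
    refine isStarEss_of_forall 𝒜 ℳ (subGr X.gr P) (fun m m' h => hei (congrArg Subtype.val h))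
      he fun d x hx hx0 => ?_
    obtain ⟨i, r, hr, ⟨m, hm⟩, hr0⟩ := hPess d x x.2 hx fun h0 => hx0 (Subtype.ext h0)
    exact ⟨i, r, hr, ⟨m, Subtype.ext hm⟩, fun h0 => hr0 (congrArg Subtype.val h0)⟩
  refine ⟨E, f, { toIsStarEss := hf, starInj := ?_ }⟩
  refine isStarInj_of_forall_surjective 𝒜 E.gr fun Y g hg => ?_
  obtain ⟨h, hh, hhg⟩ := exists_grExtend 𝒜 E.gr Y.gr X.gr hX hg.grHom hg.injective
    (isGrHom_subtype X.gr P)
  have hhinj : Function.Injective h :=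
    injective_of_comp E.gr Y.gr X.gr hg hh (by rw [hhg]; exact P.subtype_injective)
  have hle : P ≤ LinearMap.range h := fun x hx => ⟨g ⟨x, hx⟩, LinearMap.congr_fun hhg ⟨x, hx⟩⟩
  have hmem : LinearMap.range h ∈ S := by
    refine ⟨isHomogeneous_range Y.gr X.gr hh, hPe.trans hle, fun d x hx hxd hx0 => ?_⟩
    obtain ⟨y, hyd, rfl⟩ := exists_homog_preimage Y.gr X.gr hh hx hxd
    obtain ⟨i, r, hr, ⟨p, hp⟩, hr0⟩ := exists_homog_smul 𝒜 E.gr Y.gr hg hyd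
      fun h0 => hx0 (by rw [h0, map_zero])
    have hhp : (p : X.carrier) = r • h y := by
      rw [← map_smul, ← hp]; exact (LinearMap.congr_fun hhg p).symm
    obtain ⟨i', r', hr', hr'm, hr'0⟩ := hPess (i + d) (r • h y) (hhp ▸ p.2)
      (smul_mem_add 𝒜 X.gr hr hxd) fun h0 => hr0 (hhinj (by rw [map_smul, h0, map_zero]))
    exact ⟨i' + i, r' * r, SetLike.mul_mem_graded hr' hr, by rwa [mul_smul], by rwa [mul_smul]⟩
  intro y
  exact ⟨⟨h y, hPmax hmem hle ⟨y, rfl⟩⟩, hhinj (LinearMap.congr_fun hhg ⟨h y, _⟩)⟩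

end Groth.Agent.GrInj18
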