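import Mathlib.LinearAlgebra.FreeModule.Finite.Basic
import Mathlib.LinearAlgebra.Dimension.Free
import Mathlib.Algebra.Order.Group.PiLex
import Mathlib.LinearAlgebra.FreeModule.StrongRankCondition
import Mathlib.RingTheory.GradedAlgebra.Radical

/-!
# Prime criterion for gradings by a finitely generated free abelian group
-/

universe u

namespace Groth.Agent.GrInj18

variable {ι : Type} [AddCommGroup ι] [Module.Free ℤ ι]

theorem exists_linearOrder [Module.Finite ℤ ι] :
    ∃ o : LinearOrder ι, @IsOrderedCancelAddMonoid ι _ o.toPartialOrder.toPreorder := by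
  let e := (Module.finBasis ℤ ι).equivFun
  let f : ι → Lex (Fin (Module.finrank ℤ ι) → ℤ) := fun x => toLex (e x)
  let o : LinearOrder ι := LinearOrder.lift' f fun x y h => e.injective (toLex.injective h)
  refine ⟨o, ?_⟩
  let := o
  exact Function.Injective.isOrderedCancelAddMonoid f
    (fun x y => congrArg toLex (map_add e x y)) Iff.rfl

/-- A homogeneous ideal is prime once it is prime on homogeneous elements. -/
theorem isPrime_of_homogeneous [Module.Finite ℤ ι] [hdec : DecidableEq ι] {R : Type u} [CommRing R]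
    {σ : Type u} [SetLike σ R] [AddSubgroupClass σ R] (𝒜 : ι → σ) [GradedRing 𝒜] {I : Ideal R}
    (hI : I.IsHomogeneous 𝒜) (hne : I ≠ ⊤)
    (h : ∀ i j x y, x ∈ 𝒜 i → y ∈ 𝒜 j → x * y ∈ I → x ∈ I ∨ y ∈ I) : I.IsPrime := by
  obtain ⟨o, ho⟩ := exists_linearOrder (ι := ι)
  obtain rfl : hdec = fun a b => o.toDecidableEq a b := Subsingleton.elim _ _
  let := o
  let := ho
  exact hI.isPrime_of_homogeneous_mem_or_mem hne
    fun ⟨i, hi⟩ ⟨j, hj⟩ hxy => h i j _ _ hi hj hxy

end Groth.Agent.GrInj18
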