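import Groth.Agent.GrInj18.Hull
import Groth.Agent.GrInj18.Order
import Groth.Agent.InjHull18.Indec
import Groth.Agent.InjHull18.Torsion
import Mathlib.RingTheory.GradedAlgebra.Homogeneous.Ideal

/-!
# *injective envelopes of `R ⧸ p` for graded primes `p`
-/

universe u

open DirectSum GrLC

namespace Groth.Agent.GrInj18

variable {ι : Type} [DecidableEq ι] [AddCommGroup ι]
variable {R : Type u} [CommRing R] {σ : Type u} [SetLike σ R] [AddSubgroupClass σ R]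
  (𝒜 : ι → σ) [GradedRing 𝒜]

omit [AddSubgroupClass σ R] [GradedRing 𝒜] in
theorem toIdeal_isHomogeneous [AddSubgroupClass σ R] [GradedRing 𝒜] (p : HomogeneousIdeal 𝒜) :
    Submodule.IsHomogeneous (p.toIdeal : Submodule R R) 𝒜 :=
  fun i _ hx => p.isHomogeneous i hx

theorem quotGr_eq (p : HomogeneousIdeal 𝒜) : quotGr 𝒜 p = quotPieces 𝒜 p.toIdeal := rfl

noncomputable instance quotGrDecomposition (p : HomogeneousIdeal 𝒜) :
    Decomposition (quotGr 𝒜 p) :=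
  IsInternal.chooseDecomposition (ℳ := quotGr 𝒜 p)
    (quotPieces_isInternal 𝒜 (toIdeal_isHomogeneous 𝒜 p))

instance quotGrGradedSMul (p : HomogeneousIdeal 𝒜) : SetLike.GradedSMul 𝒜 (quotGr 𝒜 p) :=
  ⟨fun _ _ a _ ha hx => by
    obtain ⟨m, hm, rfl⟩ := hx
    exact ⟨a * m, SetLike.mul_mem_graded ha hm, rfl⟩⟩

variable {E : Type u} [AddCommGroup E] [Module R E] (ℰ : ι → AddSubgroup E) [Decomposition ℰ]
  [SetLike.GradedSMul 𝒜 ℰ]

theorem essential_of_hull_prime (p : HomogeneousIdeal 𝒜) {e : (R ⧸ p.toIdeal) →ₗ[R] E}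
    (he : IsStarEss (quotGr 𝒜 p) ℰ e) : InjHull.IsEssentialInj e :=
  isEssentialInj_of_isStarEss 𝒜 (quotGr 𝒜 p) ℰ he

theorem isStarIndec_of_hull_prime (p : HomogeneousIdeal 𝒜) [p.toIdeal.IsPrime]
    {e : (R ⧸ p.toIdeal) →ₗ[R] E} (he : IsStarEss (quotGr 𝒜 p) ℰ e) : IsStarIndec R ℰ := by
  have hess := essential_of_hull_prime 𝒜 ℰ p he
  refine ⟨InjHull18.hull_prime_nontrivial hess, fun P Q _ _ hPQ => ?_⟩
  by_contra! h
  exact InjHull18.uniform_of_hull_prime hess P Q h.1 h.2 hPQ.inf_eq_bot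

/-- A shift of a *injective module is *injective. -/
theorem isStarInj_shift {M : Type u} [AddCommGroup M] [Module R M] {τ : Type u} [SetLike τ M]
    [AddSubgroupClass τ M] (ℳ : ι → τ) [Decomposition ℳ] [SetLike.GradedSMul 𝒜 ℳ]
    (hM : IsStarInj 𝒜 ℳ) (g : ι) : IsStarInj 𝒜 (shiftGr ℳ g) := by
  intro A B f hf hinj k hk
  obtain ⟨h, hh, hhf⟩ := exists_grExtend 𝒜 (shiftGr A.gr (-g)) (shiftGr B.gr (-g)) ℳ hM
    (f := f) (fun j x hx => hf (j - -g) x hx) hinj (g := k) fun j x hx => by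
      have h := hk (j - -g) x hx
      rw [sub_neg_eq_add] at h
      change k x ∈ ℳ (j + g - g) at h
      rwa [add_sub_cancel_right] at h
  refine ⟨h, fun j x hx => hh (j - g) x ?_, hhf⟩
  change x ∈ B.gr (j - g - -g)
  simpa using hx

theorem smul_bijective_of_starInjHull (p : HomogeneousIdeal 𝒜) [p.toIdeal.IsPrime]
    {e : (R ⧸ p.toIdeal) →ₗ[R] E} (he : IsStarInjHull 𝒜 (quotGr 𝒜 p) ℰ e) {g : ι} {r : R}
    (hr : r ∈ 𝒜 g) (hrp : r ∉ p.toIdeal) : Function.Bijective (fun x : E => r • x) := by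
  have hinj : Function.Injective (LinearMap.lsmul R E r) :=
    InjHull18.smul_injective_of_notMem (essential_of_hull_prime 𝒜 ℰ p he.toIsStarEss) hrp
  refine ⟨hinj, fun x => ?_⟩
  obtain ⟨ρ, -, hρ⟩ := exists_grExtend 𝒜 (shiftGr ℰ g) ℰ (shiftGr ℰ g)
    (isStarInj_shift 𝒜 ℰ he.starInj g) (f := LinearMap.lsmul R E r)
    (fun j y hy => by
      have h := smul_mem_add 𝒜 ℰ hr (show y ∈ ℰ (j - g) from hy)
      rwa [add_sub_cancel] at h) hinj (isGrHom_id (shiftGr ℰ g))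
  exact ⟨ρ x, ((map_smul ρ r x).symm.trans (LinearMap.congr_fun hρ x))⟩

theorem gam_eq_top_of_hull_prime [IsNoetherianRing R] (p : HomogeneousIdeal 𝒜) [p.toIdeal.IsPrime]
    {e : (R ⧸ p.toIdeal) →ₗ[R] E} (he : IsStarEss (quotGr 𝒜 p) ℰ e) :
    gam p.toIdeal E = ⊤ := by
  obtain ⟨J, _, _, j, hj⟩ := InjHull18.exists_hull (R := R) E
  have hje : InjHull.IsInjectiveHull (j ∘ₗ e) :=
    ⟨InjHull18.essentialInj_comp (essential_of_hull_prime 𝒜 ℰ p he) hj.toIsEssentialInj,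
      hj.isInjective⟩
  have hM : LocCoh.IsPowerTorsion p.toIdeal (R ⧸ p.toIdeal) := fun m => ⟨1, fun a ha => by
    rw [pow_one] at ha
    obtain ⟨b, rfl⟩ := Ideal.Quotient.mk_surjective m
    exact Ideal.Quotient.eq_zero_iff_mem.2 (Ideal.mul_mem_right b _ ha)⟩
  have hJ := InjHull18.hull_isPowerTorsion hje hM
  refine Submodule.eq_top_iff'.2 fun x => ?_
  obtain ⟨n, hn⟩ := hJ (j x)
  exact ⟨n, fun a ha => hj.injective (by rw [map_smul, hn a ha, map_zero])⟩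

theorem mem_prime_iff_of_hull_prime (p : HomogeneousIdeal 𝒜) [p.toIdeal.IsPrime]
    {e : (R ⧸ p.toIdeal) →ₗ[R] E} (he : IsStarEss (quotGr 𝒜 p) ℰ e) (r : R) :
    r ∈ p.toIdeal ↔ ∃ x : E, x ≠ 0 ∧ r • x = 0 := by
  refine ⟨fun hr => ⟨e 1, fun h0 => ?_, ?_⟩, fun ⟨x, hx, hrx⟩ => ?_⟩
  · have h1 : (1 : R ⧸ p.toIdeal) = 0 := he.injective (h0.trans (map_zero e).symm)
    exact ‹p.toIdeal.IsPrime›.ne_top
      ((Ideal.eq_top_iff_one _).2 (Ideal.Quotient.eq_zero_iff_mem.1 (h1 : Ideal.Quotient.mk p.toIdeal 1 = 0)))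
  · rw [← map_smul]
    refine (congrArg e ?_).trans (map_zero e)
    exact Ideal.Quotient.eq_zero_iff_mem.2 (Ideal.mul_mem_right 1 _ hr)
  · by_contra hr
    exact hx (InjHull18.smul_injective_of_notMem (essential_of_hull_prime 𝒜 ℰ p he) hr
      (show r • x = r • (0 : E) by rw [hrx, smul_zero]))

variable {I : Type u} [AddCommGroup I] [Module R I] (ℐ : ι → AddSubgroup I) [Decomposition ℐ]
  [SetLike.GradedSMul 𝒜 ℐ]

/-- A homogeneous element with prime annihilator `q` spans a *envelope of `(R ⧸ q)(-g₀)` inside a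
*injective module, as a homogeneous direct summand. -/
theorem exists_summand_hull (hI : IsStarInj 𝒜 ℐ) (q : HomogeneousIdeal 𝒜) {g₀ : ι} {m : I}
    (hm : m ∈ ℐ g₀) (hann : (R ∙ m).annihilator = q.toIdeal) :
    ∃ (X : GMod.{u} 𝒜) (f : (R ⧸ q.toIdeal) →ₗ[R] X.carrier) (ψ : X.carrier →ₗ[R] I)
      (Q : Submodule R I), IsStarInjHull 𝒜 (fun j : ι => quotGr 𝒜 q (j - g₀)) X.gr f ∧
      Function.Injective ψ ∧ IsGrHom X.gr ℐ ψ ∧ ψ (f 1) = m ∧ Q.IsHomogeneous ℐ ∧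
      IsCompl (LinearMap.range ψ) Q := by
  have hker : LinearMap.ker (LinearMap.toSpanSingleton R I m) = q.toIdeal := by
    ext r
    rw [← hann, Submodule.mem_annihilator_span_singleton]
    rfl
  let φ : (R ⧸ q.toIdeal) →ₗ[R] I :=
    Submodule.liftQ q.toIdeal (LinearMap.toSpanSingleton R I m) hker.ge
  have hφinj : Function.Injective φ :=
    LinearMap.ker_eq_bot.1 (Submodule.ker_liftQ_eq_bot _ _ hker.ge hker.le)
  have hφ : IsGrHom (shiftGr (quotGr 𝒜 q) g₀) ℐ φ := by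
    rintro j _ ⟨a, ha, rfl⟩
    have h := smul_mem_add 𝒜 ℐ (show a ∈ 𝒜 (j - g₀) from ha) hm
    rwa [sub_add_cancel] at h
  obtain ⟨X, f, hf⟩ := exists_isStarInjHull 𝒜 (shiftGr (quotGr 𝒜 q) g₀)
  obtain ⟨ψ, hψ, hψf⟩ := exists_grExtend 𝒜 (shiftGr (quotGr 𝒜 q) g₀) X.gr ℐ hI hf.grHom
    hf.injective hφ
  have hψinj : Function.Injective ψ :=
    injective_of_comp (shiftGr (quotGr 𝒜 q) g₀) X.gr ℐ hf.toIsStarEss hψ
      (by rw [hψf]; exact hφinj)
  obtain ⟨ρ, hρ, hρψ⟩ := exists_grExtend 𝒜 X.gr ℐ X.gr hf.starInj hψ hψinj (isGrHom_id X.gr)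
  refine ⟨X, f, ψ, LinearMap.ker ρ, hf, hψinj, hψ, ?_, isHomogeneous_ker ℐ X.gr hρ, ?_⟩
  · have h1 := LinearMap.congr_fun hψf (Submodule.Quotient.mk (1 : R))
    exact h1.trans (one_smul R m)
  · refine IsCompl.of_eq ((Submodule.eq_bot_iff _).2 ?_) (Submodule.eq_top_iff'.2 fun x => ?_)
    · rintro _ ⟨⟨y, rfl⟩, hy⟩
      have h1 : ρ (ψ y) = y := LinearMap.congr_fun hρψ y
      rw [← h1, LinearMap.mem_ker.1 hy, map_zero]
    · refine Submodule.mem_sup.2 ⟨ψ (ρ x), ⟨_, rfl⟩, x - ψ (ρ x), ?_, by abel⟩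
      rw [LinearMap.mem_ker, map_sub, ← LinearMap.comp_apply ρ ψ (ρ x), hρψ, LinearMap.id_apply,
        sub_self]

variable [Module.Free ℤ ι] [Module.Finite ℤ ι]

theorem exists_hull_of_isStarIndec [IsNoetherianRing R] (hI : IsStarInj 𝒜 ℐ)
    (hind : IsStarIndec R ℐ) :
    ∃ (q : HomogeneousIdeal 𝒜) (g₀ : ι) (f : (R ⧸ q.toIdeal) →ₗ[R] I), q.toIdeal.IsPrime ∧
      IsStarInjHull 𝒜 (fun j : ι => quotGr 𝒜 q (j - g₀)) ℐ f := by
  have := hind.1
  let S : Set (Ideal R) := {J | ∃ d, ∃ x ∈ ℐ d, x ≠ 0 ∧ (R ∙ x).annihilator = J}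
  obtain ⟨y, hy⟩ := exists_ne (0 : I)
  obtain ⟨d, hd⟩ : ∃ d, cmp ℐ d y ≠ 0 := by
    by_contra! h; exact hy (eq_zero_of_cmp ℐ h)
  obtain ⟨q, ⟨g₀, m, hm, hm0, rfl⟩, hmax⟩ :=
    set_has_maximal_iff_noetherian.2 inferInstance S ⟨_, d, _, cmp_mem ℐ d y, hd, rfl⟩
  have hh : Ideal.IsHomogeneous 𝒜 (R ∙ m).annihilator := fun i _ hx =>
    isHomogeneous_annihilator ℐ 𝒜 (isHomogeneous_span_singleton ℐ 𝒜 hm) i hx
  have hprime : (R ∙ m).annihilator.IsPrime := by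
    refine isPrime_of_homogeneous 𝒜 hh (fun h => hm0 ?_) fun i j a b _ hb hab => ?_
    · rw [Ideal.eq_top_iff_one, Submodule.mem_annihilator_span_singleton, one_smul] at h
      exact h
    · rw [Submodule.mem_annihilator_span_singleton] at hab
      by_cases hbm : b • m = 0
      · exact Or.inr ((Submodule.mem_annihilator_span_singleton _ _).2 hbm)
      refine Or.inl ?_
      have hle : (R ∙ m).annihilator ≤ (R ∙ b • m).annihilator := fun r hr => by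
        rw [Submodule.mem_annihilator_span_singleton] at hr ⊢
        rw [smul_comm, hr, smul_zero]
      have heq := eq_of_le_of_not_lt hle
        (hmax _ ⟨j + g₀, b • m, smul_mem_add 𝒜 ℐ hb hm, hbm, rfl⟩)
      rw [heq, Submodule.mem_annihilator_span_singleton, ← mul_smul]
      exact hab
  let q : HomogeneousIdeal 𝒜 := ⟨(R ∙ m).annihilator, hh⟩
  obtain ⟨X, f, ψ, Q, hf, hψinj, hψ, hψm, hQ, hcompl⟩ :=
    exists_summand_hull 𝒜 ℐ hI q hm rfl
  have hQ0 : Q = ⊥ := (hind.2 _ _ (isHomogeneous_range X.gr ℐ hψ) hQ hcompl).resolve_left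
    fun h => hm0 (by rw [← hψm, LinearMap.range_eq_bot.1 h, LinearMap.zero_apply])
  have hsurj : Function.Surjective ψ :=
    LinearMap.range_eq_top.1 (by simpa [hQ0] using hcompl.sup_eq_top)
  refine ⟨q, g₀, ψ ∘ₗ f, hprime,
    { injective := hψinj.comp hf.injective
      grHom := fun j x hx => hψ j _ (hf.grHom j x hx)
      starInj := hI
      essential := fun P hP hP0 => ?_ }⟩
  have hcomap : P.comap ψ ≠ ⊥ := by
    obtain ⟨x, hx, hx0⟩ := (Submodule.ne_bot_iff _).1 hP0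
    obtain ⟨z, rfl⟩ := hsurj x
    exact (Submodule.ne_bot_iff _).2 ⟨z, hx, fun h0 => hx0 (by rw [h0, map_zero])⟩
  obtain ⟨z, ⟨hzP, w, rfl⟩, hz0⟩ := (Submodule.ne_bot_iff _).1
    (hf.essential _ (isHomogeneous_comap X.gr ℐ hψ hP) hcomap)
  exact (Submodule.ne_bot_iff _).2 ⟨ψ (f w), ⟨hzP, w, rfl⟩,
    fun h0 => hz0 (hψinj (h0.trans (map_zero ψ).symm))⟩

end Groth.Agent.GrInj18
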