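import Groth.Agent.GrInj18.Hull

/-!
# *injective resolutions
-/

universe u

open DirectSum GrLC

namespace Groth.Agent.GrInj18

variable {ι : Type} [DecidableEq ι] [AddCommGroup ι]
variable {R : Type u} [CommRing R] {σ : Type u} [SetLike σ R] [AddSubgroupClass σ R]
  (𝒜 : ι → σ) [GradedRing 𝒜]
variable {M : Type u} [AddCommGroup M] [Module R M] {τ : Type u} [SetLike τ M] [AddSubgroupClass τ M]
  (ℳ : ι → τ) [Decomposition ℳ] [SetLike.GradedSMul 𝒜 ℳ]

/-- A graded module with a homogeneous submodule. -/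
structure ResState : Type (u + 1) where
  X : GMod.{u} 𝒜
  P : Submodule R X.carrier
  hP : P.IsHomogeneous X.gr

theorem ResState.exists_next (T : ResState 𝒜) : ∃ (Y : GMod.{u} 𝒜)
    (φ : T.X.carrier →ₗ[R] Y.carrier),
    IsStarInj 𝒜 Y.gr ∧ IsGrHom T.X.gr Y.gr φ ∧ LinearMap.ker φ = T.P := by
  let : Decomposition (quotPieces T.X.gr T.P) := (gquot 𝒜 T.X.gr T.hP).dec
  obtain ⟨Y, φ, hY, hφ, hinj⟩ := exists_starInj_embedding 𝒜 (quotPieces T.X.gr T.P)
  refine ⟨Y, φ ∘ₗ T.P.mkQ, hY, isGrHom_comp T.X.gr _ _ (isGrHom_mkQ T.X.gr T.P) hφ, ?_⟩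
  rw [LinearMap.ker_comp, LinearMap.ker_eq_bot.2 hinj, Submodule.comap_bot, Submodule.ker_mkQ]

/-- The next state. -/
noncomputable def ResState.next (T : ResState 𝒜) : ResState 𝒜 where
  X := (T.exists_next 𝒜).choose
  P := LinearMap.range (T.exists_next 𝒜).choose_spec.choose
  hP := isHomogeneous_range T.X.gr _ (T.exists_next 𝒜).choose_spec.choose_spec.2.1

/-- The map to the next state. -/
noncomputable def ResState.map (T : ResState 𝒜) :
    T.X.carrier →ₗ[R] (T.next 𝒜).X.carrier :=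
  (T.exists_next 𝒜).choose_spec.choose

/-- The chain of states. -/
noncomputable def ResState.iterate (T : ResState 𝒜) : ℕ → ResState 𝒜
  | 0 => T
  | n + 1 => (T.iterate n).next 𝒜

theorem ResState.isStarInj_iterate (T : ResState 𝒜) (h : IsStarInj 𝒜 T.X.gr) :
    ∀ n, IsStarInj 𝒜 (T.iterate 𝒜 n).X.gr
  | 0 => h
  | n + 1 => ((T.iterate 𝒜 n).exists_next 𝒜).choose_spec.choose_spec.1

/-- *injective resolutions exist. -/
theorem nonempty_starInjRes : Nonempty (StarInjRes 𝒜 ℳ) := by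
  obtain ⟨X, e, hX, he, hei⟩ := exists_starInj_embedding 𝒜 ℳ
  let T : ResState 𝒜 := ⟨X, LinearMap.range e, isHomogeneous_range ℳ X.gr he⟩
  exact ⟨{
    X := fun n => (T.iterate 𝒜 n).X
    d := fun n => (T.iterate 𝒜 n).map 𝒜
    ε := e
    d_grHom := fun n => ((T.iterate 𝒜 n).exists_next 𝒜).choose_spec.choose_spec.2.1
    ε_grHom := he
    ε_injective := hei
    exact_zero := (T.exists_next 𝒜).choose_spec.choose_spec.2.2
    exact_succ := fun n => ((T.iterate 𝒜 (n + 1)).exists_next 𝒜).choose_spec.choose_spec.2.2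
    starInj := T.isStarInj_iterate 𝒜 hX }⟩

end Groth.Agent.GrInj18
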